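import Mathlib.LinearAlgebra.Dimension.Finrank
import Mathlib.LinearAlgebra.FiniteDimensional.Lemmas
import Mathlib.Algebra.Algebra.Operations

/-!
# Symmetric local algebras with a small trace space are commutative

For the radical `P` of a local corner of a symmetric algebra, if the commutators span a subspace
of codimension at most three in `P`, then the commutators vanish.
-/

set_option autoImplicit false

namespace Cfsg.Agent.BC79.LocalSymm

open Submodule

variable {K A : Type*} [Field K] [Ring A] [Algebra K A]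

/-- The span of the commutators of elements of `P`. -/
def comSpan (P : Submodule K A) : Submodule K A :=
  span K {z | ∃ a ∈ P, ∃ b ∈ P, a * b - b * a = z}

variable {P : Submodule K A}

theorem comSpan_le_sq : comSpan P ≤ P ^ 2 := by
  refine span_le.mpr ?_
  rintro _ ⟨a, ha, b, hb, rfl⟩
  rw [pow_two]
  exact sub_mem (mul_mem_mul ha hb) (mul_mem_mul hb ha)

theorem mulL {X Y Z : Submodule K A} (h : X ≤ Y) : X * Z ≤ Y * Z :=
  Submodule.mul_le.mpr fun _ hm _ hn => mul_mem_mul (h hm) hn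

theorem mulR {X Y Z : Submodule K A} (h : X ≤ Y) : Z * X ≤ Z * Y :=
  Submodule.mul_le.mpr fun _ hm _ hn => mul_mem_mul hm (h hn)

theorem pow_succ_le (hP : P * P ≤ P) : ∀ n : ℕ, P ^ (n + 1) ≤ P := by
  intro n
  induction n with
  | zero => rw [pow_one]
  | succ n ih =>
    rw [pow_succ]
    exact le_trans (mulL ih) hP

theorem pow_anti (hP : P * P ≤ P) (n : ℕ) : P ^ (n + 2) ≤ P ^ (n + 1) := by
  induction n with
  | zero => simpa [pow_two] using hP
  | succ n ih =>
    rw [pow_succ, pow_succ P (n + 1)]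
    exact mulL ih

variable {N : ℕ}

theorem pow_eq_bot (hnil : P ^ (N + 1) = ⊥) {j : ℕ} (h : N ≤ j) : P ^ (j + 1) = ⊥ := by
  obtain ⟨d, rfl⟩ := Nat.exists_eq_add_of_le h
  rw [show N + d + 1 = (N + 1) + d by omega, pow_add, hnil, Submodule.bot_mul]

/-- Descent along the powers. -/
theorem descent (hnil : P ^ (N + 1) = ⊥) (S : Submodule K A) (j₀ : ℕ)
    (h : ∀ j, j₀ ≤ j → P ^ (j + 1) ≤ S ⊔ P ^ (j + 2)) :
    ∀ j, j₀ ≤ j → P ^ (j + 1) ≤ S := by
  suffices H : ∀ i j, j₀ ≤ j → N ≤ j + i → P ^ (j + 1) ≤ S from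
    fun j hj => H N j hj (Nat.le_add_left _ _)
  intro i
  induction i with
  | zero =>
    intro j _ hN
    rw [pow_eq_bot hnil (by omega)]
    exact bot_le
  | succ i ih =>
    intro j hj hN
    exact (h j hj).trans (sup_le le_rfl (ih (j + 1) (by omega) (by omega)))

theorem eq_bot_of_le_next (hnil : P ^ (N + 1) = ⊥) {j : ℕ} (h : P ^ (j + 1) ≤ P ^ (j + 2)) :
    P ^ (j + 1) = ⊥ := by
  have h' : ∀ i, j ≤ i → P ^ (i + 1) ≤ (⊥ : Submodule K A) ⊔ P ^ (i + 2) := by
    intro i hi
    obtain ⟨d, rfl⟩ := Nat.exists_eq_add_of_le hi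
    rw [bot_sup_eq, show j + d + 1 = j + 1 + d by omega, show j + d + 2 = j + 2 + d by omega,
      pow_add, pow_add P (j + 2)]
    exact mulL h
  exact le_bot_iff.mp (descent hnil ⊥ j h' j le_rfl)

section Form

variable (hP : P * P ≤ P) (hnil : P ^ (N + 1) = ⊥)
  (hann : ∀ z ∈ comSpan P, (∀ w ∈ P, z * w = 0) → z = 0)

include hP hnil hann

theorem eq_bot_of_le_comSpan {j : ℕ} (h : P ^ (j + 1) ≤ comSpan P) : P ^ (j + 1) = ⊥ := by
  suffices H : ∀ i j, N ≤ j + i → P ^ (j + 1) ≤ comSpan P → P ^ (j + 1) = ⊥ from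
    H N j (Nat.le_add_left _ _) h
  intro i
  induction i with
  | zero => exact fun j hN _ => pow_eq_bot hnil (by omega)
  | succ i ih =>
    intro j hN hj
    have h1 := ih (j + 1) (by omega) ((pow_anti hP j).trans hj)
    refine (Submodule.eq_bot_iff _).mpr fun z hz => hann z (hj hz) fun w hw => ?_
    have h2 : z * w ∈ P ^ (j + 1) * P := mul_mem_mul hz hw
    rwa [← pow_succ, h1, mem_bot] at h2

theorem comSpan_eq_bot_of_cube (h : P ^ 3 ≤ comSpan P) : comSpan P = ⊥ := by
  have h3 : P ^ 3 = ⊥ := eq_bot_of_le_comSpan hP hnil hann (j := 2) h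
  refine (Submodule.eq_bot_iff _).mpr fun z hz => hann z hz fun w hw => ?_
  have h2 : z * w ∈ P ^ 2 * P := mul_mem_mul (comSpan_le_sq hz) hw
  rwa [← pow_succ, h3, mem_bot] at h2

end Form

theorem span_pow_succ (a : A) (n : ℕ) :
    span K {a ^ (n + 1)} = span K {a ^ n} * span K {a} := by
  rw [span_mul_span, Set.singleton_mul_singleton, ← pow_succ]

theorem span_le_pow {a : A} (ha : a ∈ P) (n : ℕ) : span K {a ^ n} ≤ P ^ n :=
  span_le.mpr (Set.singleton_subset_iff.mpr (Submodule.pow_mem_pow P ha n))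

/-- A generator modulo the square generates all powers modulo the next one. -/
theorem pow_le_of_gen {a : A} (ha : a ∈ P) {j : ℕ}
    (hbase : P ^ (j + 1) ≤ span K {a ^ (j + 1)} ⊔ P ^ (j + 2))
    (hright : span K {a ^ (j + 1)} * P ≤ span K {a ^ (j + 2)} ⊔ P ^ (j + 3)) :
    ∀ d : ℕ, P ^ (j + d + 1) ≤ span K {a ^ (j + d + 1)} ⊔ P ^ (j + d + 2) := by
  intro d
  induction d with
  | zero => exact hbase
  | succ d ih =>
    calc P ^ (j + (d + 1) + 1) = P ^ (j + d + 1) * P := pow_succ P (j + d + 1)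
      _ ≤ (span K {a ^ (j + d + 1)} ⊔ P ^ (j + d + 2)) * P := mulL ih
      _ = span K {a ^ (j + d + 1)} * P ⊔ P ^ (j + d + 2) * P := Submodule.sup_mul ..
      _ ≤ _ := by
        refine sup_le ?_ (le_sup_of_le_right (pow_succ P (j + d + 2)).ge)
        have h1 : span K {a ^ (j + d + 1)} = span K {a ^ d} * span K {a ^ (j + 1)} := by
          rw [span_mul_span, Set.singleton_mul_singleton, ← pow_add,
            show d + (j + 1) = j + d + 1 by omega]
        rw [h1, mul_assoc]
        refine (mulR hright).trans ?_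
        rw [Submodule.mul_sup, span_mul_span, Set.singleton_mul_singleton, ← pow_add,
          show d + (j + 2) = j + (d + 1) + 1 by omega]
        refine sup_le_sup_left ?_ _
        refine (mulL (span_le_pow ha d)).trans ?_
        rw [← pow_add, show d + (j + 3) = j + (d + 1) + 2 by omega]

/-- If the radical is generated by one element, it is commutative. -/
theorem comSpan_eq_bot_of_cyclic (hnil : P ^ (N + 1) = ⊥) {a : A} (ha : a ∈ P)
    (h : P ≤ span K {a} ⊔ P ^ 2) : comSpan P = ⊥ := by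
  have hright : span K {a ^ 1} * P ≤ span K {a ^ 2} ⊔ P ^ 3 := by
    refine (mulR h).trans ?_
    rw [Submodule.mul_sup, span_mul_span, Set.singleton_mul_singleton, pow_one, ← pow_two]
    refine sup_le_sup_left ?_ _
    rw [pow_succ' P 2]
    exact mulL (span_le.mpr (Set.singleton_subset_iff.mpr ha))
  have hgen := pow_le_of_gen (P := P) ha (j := 0) (by simpa using h) hright
  set S : Submodule K A := span K (Set.range fun i : ℕ => a ^ i) with hS
  have hPS : P ≤ S := by
    have h1 := descent hnil S 0 (fun j _ => ?_) 0 le_rfl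
    · simpa using h1
    · have h2 := hgen j
      simp only [Nat.zero_add] at h2
      refine h2.trans (sup_le_sup_right ?_ _)
      exact span_le.mpr (Set.singleton_subset_iff.mpr (subset_span ⟨j + 1, rfl⟩))
  have hcomm : ∀ x ∈ S, ∀ y ∈ S, x * y = y * x := by
    intro x hx y hy
    have hxa : ∀ i : ℕ, x * a ^ i = a ^ i * x := by
      intro i
      induction hx using span_induction with
      | mem z hz => obtain ⟨k, rfl⟩ := hz; exact pow_mul_comm a k i
      | zero => simp
      | add u v _ _ hu hv => rw [add_mul, mul_add, hu, hv]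
      | smul r u _ hu => rw [smul_mul_assoc, mul_smul_comm, hu]
    induction hy using span_induction with
    | mem z hz => obtain ⟨k, rfl⟩ := hz; exact hxa k
    | zero => simp
    | add u v _ _ hu hv => rw [add_mul, mul_add, hu, hv]
    | smul r u _ hu => rw [smul_mul_assoc, mul_smul_comm, hu]
  refine le_bot_iff.mp (span_le.mpr ?_)
  rintro _ ⟨x, hx, y, hy, rfl⟩
  rw [SetLike.mem_coe, mem_bot, hcomm x (hPS hx) y (hPS hy), sub_self]

/-- Modulo the cube, the commutators are multiples of one of them. -/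
theorem comSpan_le_span_sup_cube (hP : P * P ≤ P) {a b : A} (ha : a ∈ P) (hb : b ∈ P)
    (h : P ≤ span K {a, b} ⊔ P ^ 2) : comSpan P ≤ span K {a * b - b * a} ⊔ P ^ 3 := by
  refine span_le.mpr ?_
  rintro _ ⟨x, hx, y, hy, rfl⟩
  obtain ⟨x', hx', u, hu, rfl⟩ := mem_sup.mp (h hx)
  obtain ⟨y', hy', v, hv, rfl⟩ := mem_sup.mp (h hy)
  obtain ⟨x₁, x₂, rfl⟩ := mem_span_pair.mp hx'
  obtain ⟨y₁, y₂, rfl⟩ := mem_span_pair.mp hy'
  have hy'P : y₁ • a + y₂ • b ∈ P := P.add_mem (P.smul_mem _ ha) (P.smul_mem _ hb)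
  have hx'P : x₁ • a + x₂ • b ∈ P := P.add_mem (P.smul_mem _ ha) (P.smul_mem _ hb)
  have hvP : v ∈ P := by
    rw [pow_two] at hv
    exact hP hv
  have hyP : y₁ • a + y₂ • b + v ∈ P := P.add_mem hy'P hvP
  have e : (x₁ • a + x₂ • b + u) * (y₁ • a + y₂ • b + v) -
      (y₁ • a + y₂ • b + v) * (x₁ • a + x₂ • b + u) =
      (x₁ * y₂ - x₂ * y₁) • (a * b - b * a) +
      ((u * (y₁ • a + y₂ • b + v) - (y₁ • a + y₂ • b + v) * u) +
        ((x₁ • a + x₂ • b) * v - v * (x₁ • a + x₂ • b))) := by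
    simp only [add_mul, mul_add, smul_mul_assoc, mul_smul_comm, smul_smul, sub_smul, smul_sub,
      smul_add, mul_comm y₁, mul_comm y₂]
    abel
  rw [SetLike.mem_coe, e]
  refine add_mem (mem_sup_left (smul_mem _ _ (mem_span_singleton_self _))) (mem_sup_right ?_)
  refine add_mem (sub_mem ?_ ?_) (sub_mem ?_ ?_)
  · rw [pow_succ]; exact mul_mem_mul hu hyP
  · rw [pow_succ']; exact mul_mem_mul hyP hu
  · rw [pow_succ']; exact mul_mem_mul hx'P hv
  · rw [pow_succ]; exact mul_mem_mul hv hx'P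

/-- The cube of the radical consists of commutators when the square is spanned by one commutator
modulo the cube. -/
theorem cube_le_comSpan (hP : P * P ≤ P) (hnil : P ^ (N + 1) = ⊥) {a b : A} (ha : a ∈ P)
    (hb : b ∈ P)
    (hc : P ^ 2 ≤ span K {a * b - b * a} ⊔ P ^ 3) (hne : P ^ 2 ≠ ⊥) :
    P ^ 3 ≤ comSpan P := by
  -- a square outside the cube
  have key : ∀ x y : A, x ∈ P → y ∈ P → x * x ∉ P ^ 3 →
      P ^ 2 ≤ span K {x * y - y * x} ⊔ P ^ 3 → P ^ 3 ≤ comSpan P := by
    intro x y hx hy hxx hcc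
    have hxxP : x * x ∈ P ^ 2 := by rw [pow_two]; exact mul_mem_mul hx hx
    obtain ⟨c', hc', t, ht, e⟩ := mem_sup.mp (hcc hxxP)
    obtain ⟨α, rfl⟩ := mem_span_singleton.mp hc'
    have hα : α ≠ 0 := fun h0 => hxx (by rw [← e, h0, zero_smul, zero_add]; exact ht)
    have hgen2 : P ^ 2 ≤ span K {x ^ 2} ⊔ P ^ 3 := by
      refine hcc.trans (sup_le ?_ le_sup_right)
      refine span_le.mpr (Set.singleton_subset_iff.mpr ?_)
      rw [SetLike.mem_coe, mem_sup]
      refine ⟨α⁻¹ • x ^ 2, smul_mem _ _ (mem_span_singleton_self _), (-α⁻¹) • t, smul_mem _ _ ht, ?_⟩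
      rw [pow_two, ← e, smul_add, smul_smul, inv_mul_cancel₀ hα, one_smul, neg_smul]
      abel
    have hxP : span K {x} ≤ P := span_le.mpr (Set.singleton_subset_iff.mpr hx)
    have hright : span K {x ^ 2} * P ≤ span K {x ^ 3} ⊔ P ^ 4 := by
      rw [show x ^ 2 = x * x from pow_two x, ← Set.singleton_mul_singleton, ← span_mul_span,
        mul_assoc]
      refine (mulR ((mulL hxP).trans
        ((pow_two P).ge.trans hgen2))).trans ?_
      rw [Submodule.mul_sup, span_mul_span, Set.singleton_mul_singleton, ← pow_succ']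
      refine sup_le_sup_left ?_ _
      rw [pow_succ' P 3]
      exact mulL hxP
    have hgen := pow_le_of_gen (P := P) hx (j := 1) hgen2 hright
    refine descent hnil (comSpan P) 2 (fun j hj => ?_) 2 le_rfl
    obtain ⟨d, rfl⟩ := Nat.exists_eq_add_of_le hj
    have h2 := hgen (1 + d)
    rw [show 1 + (1 + d) + 1 = 2 + d + 1 by omega, show 1 + (1 + d) + 2 = 2 + d + 2 by omega] at h2
    refine h2.trans (sup_le ?_ le_sup_right)
    refine span_le.mpr (Set.singleton_subset_iff.mpr ?_)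
    have hpow : x ^ (2 + d + 1) = α • (x ^ (d + 1) * (x * y - y * x)) + x ^ (d + 1) * t := by
      rw [show 2 + d + 1 = d + 1 + 2 by omega, pow_add, pow_two, ← e, mul_add, mul_smul_comm]
    rw [SetLike.mem_coe, hpow]
    refine add_mem (mem_sup_left (smul_mem _ _ ?_)) (mem_sup_right ?_)
    · refine subset_span ⟨x, hx, x ^ (d + 1) * y,
        hP (mul_mem_mul (pow_succ_le hP d (Submodule.pow_mem_pow P hx _)) hy), ?_⟩
      rw [mul_sub, ← mul_assoc, ← mul_assoc, ← mul_assoc, ← pow_succ', ← pow_succ]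
    · rw [show 2 + d + 2 = d + 1 + 3 by omega, pow_add]
      exact mul_mem_mul (Submodule.pow_mem_pow P hx _) ht
  by_cases haa : a * a ∈ P ^ 3
  swap
  · exact key a b ha hb haa hc
  by_cases hbb : b * b ∈ P ^ 3
  swap
  · refine key b a hb ha hbb (hc.trans (sup_le_sup_right ?_ _))
    refine span_le.mpr (Set.singleton_subset_iff.mpr ?_)
    rw [SetLike.mem_coe, mem_span_singleton]
    exact ⟨-1, by rw [neg_one_smul, neg_sub]⟩
  -- both squares vanish modulo the cube
  suffices h3 : P ^ 3 = ⊥ by rw [h3]; exact bot_le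
  have key2 : ∀ x y : A, x ∈ P → y ∈ P → y * y ∈ P ^ 3 → x * y ∉ P ^ 3 → P ^ 3 = ⊥ := by
    intro x y hx hy hyy hxy
    have hxyP : x * y ∈ P ^ 2 := by rw [pow_two]; exact mul_mem_mul hx hy
    obtain ⟨c', hc', t, ht, e⟩ := mem_sup.mp (hc hxyP)
    obtain ⟨β, rfl⟩ := mem_span_singleton.mp hc'
    have hβ : β ≠ 0 := fun h0 => hxy (by rw [← e, h0, zero_smul, zero_add]; exact ht)
    have hgen2 : P ^ 2 ≤ span K {x * y} ⊔ P ^ 3 := by
      refine hc.trans (sup_le ?_ le_sup_right)
      refine span_le.mpr (Set.singleton_subset_iff.mpr ?_)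
      rw [SetLike.mem_coe, mem_sup]
      refine ⟨β⁻¹ • (x * y), smul_mem _ _ (mem_span_singleton_self _), (-β⁻¹) • t, smul_mem _ _ ht, ?_⟩
      rw [← e, smul_add, smul_smul, inv_mul_cancel₀ hβ, one_smul, neg_smul]
      abel
    have hxP : span K {x} ≤ P := span_le.mpr (Set.singleton_subset_iff.mpr hx)
    have hyP : span K {y} ≤ P := span_le.mpr (Set.singleton_subset_iff.mpr hy)
    refine eq_bot_of_le_next hnil (j := 2) ?_
    rw [pow_succ' P 2]
    refine (mulR hgen2).trans ?_
    rw [Submodule.mul_sup]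
    refine sup_le ?_ (pow_succ' P 3).ge
    rw [← Set.singleton_mul_singleton, ← span_mul_span, ← mul_assoc]
    refine (mulL ((mulR hxP).trans
      ((pow_two P).ge.trans hgen2))).trans ?_
    rw [Submodule.sup_mul]
    refine sup_le ?_ ((mulR hyP).trans (pow_succ P 3).ge)
    rw [span_mul_span, Set.singleton_mul_singleton, mul_assoc]
    refine span_le.mpr (Set.singleton_subset_iff.mpr ?_)
    rw [pow_succ' P 3]
    exact mul_mem_mul hx hyy
  by_cases hab : a * b ∈ P ^ 3
  swap
  · exact key2 a b ha hb hbb hab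
  by_cases hba : b * a ∈ P ^ 3
  swap
  · exact key2 b a hb ha haa hba
  exfalso
  refine hne (eq_bot_of_le_next hnil (j := 1) (hc.trans (sup_le ?_ le_rfl)))
  exact span_le.mpr (Set.singleton_subset_iff.mpr (sub_mem hab hba))

variable [FiniteDimensional K A]

/-- Two generators modulo a subspace of codimension at most two. -/
theorem exists_pair_gen {P Q : Submodule K A} (hQP : Q ≤ P)
    (h : Module.finrank K P ≤ Module.finrank K Q + 2) :
    ∃ a ∈ P, ∃ b ∈ P, P ≤ span K {a, b} ⊔ Q := by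
  by_cases h0 : P ≤ Q
  · exact ⟨0, P.zero_mem, 0, P.zero_mem, le_sup_of_le_right h0⟩
  obtain ⟨a, ha, haQ⟩ := Set.not_subset.mp h0
  by_cases h1 : P ≤ span K {a} ⊔ Q
  · exact ⟨a, ha, 0, P.zero_mem, h1.trans (sup_le_sup_right (span_mono (by simp)) _)⟩
  obtain ⟨b, hb, hbQ⟩ := Set.not_subset.mp h1
  refine ⟨a, ha, b, hb, ?_⟩
  have hlt1 : Q < span K {a} ⊔ Q := lt_of_le_of_ne le_sup_right fun e => haQ (by
    rw [e]; exact mem_sup_left (mem_span_singleton_self a))
  have hlt2 : span K {a} ⊔ Q < span K {a, b} ⊔ Q :=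
    lt_of_le_of_ne (sup_le_sup_right (span_mono (by simp)) _) fun e => hbQ (by
      rw [e]; exact mem_sup_left (subset_span (by simp)))
  have hle : span K {a, b} ⊔ Q ≤ P :=
    sup_le (span_le.mpr (Set.insert_subset_iff.mpr ⟨ha, Set.singleton_subset_iff.mpr hb⟩)) hQP
  refine (Submodule.eq_of_le_of_finrank_le hle ?_).ge
  have := Submodule.finrank_lt_finrank_of_lt hlt1
  have := Submodule.finrank_lt_finrank_of_lt hlt2
  omega

/-- The main lemma: commutators vanish if they have codimension at most three in the radical. -/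
theorem comSpan_eq_bot (hP : P * P ≤ P) (hnil : P ^ (N + 1) = ⊥)
    (hann : ∀ z ∈ comSpan P, (∀ w ∈ P, z * w = 0) → z = 0)
    (hk : Module.finrank K P ≤ Module.finrank K (comSpan P) + 3) : comSpan P = ⊥ := by
  have hcube : P ^ 3 ≤ P ^ 2 := pow_anti hP 1
  by_cases h2 : P ^ 2 ≤ comSpan P
  · exact comSpan_eq_bot_of_cube hP hnil hann (hcube.trans h2)
  by_cases h3 : P ^ 3 ≤ comSpan P
  · exact comSpan_eq_bot_of_cube hP hnil hann h3
  have hlt : comSpan P < P ^ 2 := lt_of_le_not_ge comSpan_le_sq h2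
  have hlt3 : comSpan P < comSpan P ⊔ P ^ 3 :=
    lt_of_le_of_ne le_sup_left fun e => h3 (by rw [e]; exact le_sup_right)
  have hle3 : comSpan P ⊔ P ^ 3 ≤ P ^ 2 := sup_le comSpan_le_sq hcube
  have h2P : P ^ 2 ≤ P := pow_succ_le hP 1
  have f1 := Submodule.finrank_lt_finrank_of_lt hlt
  have f3 := Submodule.finrank_lt_finrank_of_lt hlt3
  by_cases hm : Module.finrank K P ≤ Module.finrank K ↥(P ^ 2) + 1
  · -- one generator
    by_cases h0 : P ≤ P ^ 2
    · exact comSpan_eq_bot_of_cyclic hnil P.zero_mem (le_sup_of_le_right h0)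
    obtain ⟨a, ha, haQ⟩ := Set.not_subset.mp h0
    refine comSpan_eq_bot_of_cyclic hnil ha ?_
    have hlt1 : P ^ 2 < span K {a} ⊔ P ^ 2 := lt_of_le_of_ne le_sup_right fun e => haQ (by
      rw [e]; exact mem_sup_left (mem_span_singleton_self a))
    have := Submodule.finrank_lt_finrank_of_lt hlt1
    exact (Submodule.eq_of_le_of_finrank_le
      (sup_le (span_le.mpr (Set.singleton_subset_iff.mpr ha)) h2P) (by omega)).ge
  obtain ⟨a, ha, b, hb, hgen⟩ := exists_pair_gen h2P (by omega)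
  have he : comSpan P ⊔ P ^ 3 = P ^ 2 := Submodule.eq_of_le_of_finrank_le hle3 (by omega)
  refine comSpan_eq_bot_of_cube hP hnil hann
    (cube_le_comSpan hP hnil ha hb ?_ fun e => h2 (by rw [e]; exact bot_le))
  rw [← he]
  exact sup_le (comSpan_le_span_sup_cube hP ha hb hgen) le_sup_right

end Cfsg.Agent.BC79.LocalSymm
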