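import Cfsg.Agent.BC85.Star.Algebra
import Cfsg.Agent.BlockAlg8.Projective
import Mathlib.GroupTheory.Sylow

/-!
# Central idempotents whose ideal is a single orbit of `P × P`

For a central idempotent `B` of a group algebra in characteristic `p` with Brauer image nonzero at
`D ≤ P` and free orbits there, the translates of one element by `P × P` give `|P| [P : D]`
linearly independent elements of the ideal of `B`. If they span the ideal, the fusion of the
subgroups of `P` with nonzero Brauer image is induced by `P`.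
-/

set_option autoImplicit false

namespace Cfsg.Agent.BC79

open MonoidAlgebra
open Cfsg.Agent.BC85.Star (cj coeff_cj cj_mul cj_cj Fixd br coeff_br br_sum br_mul trRel trRel_def
  fixd_trRel mul_trRel_mul exists_trRel_eq)
open scoped Classical

/-- A sum of an invariant function over a set with an action of a `p`-group is the sum over the
fixed points, in characteristic `p`. -/
theorem sum_eq_sum_fixed {k : Type*} [CommRing k] {p : ℕ} [Fact p.Prime] [CharP k p]
    {α H : Type*} [Group H] [MulAction H α] [Fintype α] [Finite H] (hH : IsPGroup p H) (f : α → k)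
    (hinv : ∀ (u : H) (a : α), f (u • a) = f a) :
    ∑ a, f a = ∑ a ∈ Finset.univ.filter (· ∈ MulAction.fixedPoints H α), f a := by
  refine (Finset.sum_filter_add_sum_filter_not Finset.univ (· ∈ MulAction.fixedPoints H α) f).symm
    |>.trans ?_
  rw [add_eq_left, ← Finset.sum_fiberwise (Finset.univ.filter (· ∉ MulAction.fixedPoints H α))
    (fun a => (Quotient.mk (MulAction.orbitRel H α) a))]
  refine Finset.sum_eq_zero fun q _ => ?_
  induction q using Quotient.inductionOn with
  | h a =>
    by_cases ha : a ∈ MulAction.fixedPoints H α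
    · refine Finset.sum_eq_zero fun b hb => ?_
      simp only [Finset.mem_filter, Finset.mem_univ, true_and, Quotient.eq,
        MulAction.orbitRel_apply] at hb
      obtain ⟨u, rfl⟩ := MulAction.mem_orbit_iff.mp hb.2
      exact absurd (by rw [ha u]; exact ha) hb.1
    · have hset : (Finset.univ.filter (· ∉ MulAction.fixedPoints H α)).filter
          (fun b => Quotient.mk (MulAction.orbitRel H α) b = Quotient.mk _ a)
          = (MulAction.orbit H a).toFinset := by
        ext b
        simp only [Finset.mem_filter, Finset.mem_univ, true_and, Quotient.eq,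
          MulAction.orbitRel_apply, Set.mem_toFinset]
        refine ⟨And.right, fun hb => ⟨fun hbf => ha ?_, hb⟩⟩
        obtain ⟨u, rfl⟩ := MulAction.mem_orbit_iff.mp hb
        have := hbf u⁻¹
        rw [inv_smul_smul] at this
        exact this ▸ hbf
      have hconst : ∀ b ∈ (MulAction.orbit H a).toFinset, f b = f a := by
        intro b hb
        obtain ⟨u, rfl⟩ := MulAction.mem_orbit_iff.mp (Set.mem_toFinset.mp hb)
        exact hinv u a
      rw [hset, Finset.sum_congr rfl hconst, Finset.sum_const, nsmul_eq_mul]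
      obtain ⟨j, hj⟩ := hH.card_orbit a
      have hj0 : j ≠ 0 := by
        intro h0
        rw [h0, pow_zero, Nat.card_eq_one_iff_unique] at hj
        refine ha fun u => ?_
        have := hj.1
        exact congrArg Subtype.val
          (Subsingleton.elim (⟨u • a, MulAction.mem_orbit a u⟩ : MulAction.orbit H a)
            ⟨a, MulAction.mem_orbit_self a⟩)
      rw [Set.toFinset_card, ← Nat.card_eq_fintype_card, hj, Nat.cast_pow, CharP.cast_eq_zero,
        zero_pow hj0, zero_mul]

variable {k : Type*} [Field k] {G : Type*} [Group G]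

theorem coeff_of_mul (g : G) (w : MonoidAlgebra k G) (x : G) :
    (MonoidAlgebra.of k G g * w).coeff x = w.coeff (g⁻¹ * x) := by
  rw [MonoidAlgebra.of_apply, MonoidAlgebra.coeff_single_mul_apply, one_mul]

theorem coeff_mul_of (g : G) (w : MonoidAlgebra k G) (x : G) :
    (w * MonoidAlgebra.of k G g).coeff x = w.coeff (x * g⁻¹) := by
  rw [MonoidAlgebra.of_apply, MonoidAlgebra.coeff_mul_single_apply, mul_one]

theorem supp_mul {H : Subgroup G} {a b : MonoidAlgebra k G} (ha : ∀ x, a.coeff x ≠ 0 → x ∈ H)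
    (hb : ∀ x, b.coeff x ≠ 0 → x ∈ H) {x : G} (hx : (a * b).coeff x ≠ 0) : x ∈ H := by
  by_contra hxH
  rw [MonoidAlgebra.coeff_mul_apply_left] at hx
  refine hx (Finset.sum_eq_zero fun y hy => ?_)
  have h1 : b.coeff (y⁻¹ * x) = 0 := by
    by_contra h
    exact hxH (by simpa using H.mul_mem (ha y (Finsupp.mem_support_iff.mp hy)) (hb _ h))
  show _ * _ = _
  rw [h1, mul_zero]

theorem supp_br (Q : Subgroup G) (w : MonoidAlgebra k G) {x : G} (hx : (br Q w).coeff x ≠ 0) :
    x ∈ Subgroup.centralizer (Q : Set G) := by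
  by_contra h
  rw [coeff_br, if_neg h] at hx
  exact hx rfl

/-- Truncation commutes with multiplication by an element supported in the centralizer. -/
theorem br_mul_supp {Q : Subgroup G} {a : MonoidAlgebra k G}
    (ha : ∀ x, a.coeff x ≠ 0 → x ∈ Subgroup.centralizer (Q : Set G)) (b : MonoidAlgebra k G) :
    br Q (a * b) = a * br Q b := by
  refine MonoidAlgebra.ext (Finsupp.ext fun x => ?_)
  rw [coeff_br]
  by_cases hx : x ∈ Subgroup.centralizer (Q : Set G)
  · rw [if_pos hx, MonoidAlgebra.coeff_mul_apply_left, MonoidAlgebra.coeff_mul_apply_left]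
    refine Finset.sum_congr rfl fun y hy => ?_
    show _ * _ = _ * _
    rw [coeff_br, if_pos (mul_mem (inv_mem (ha y (Finsupp.mem_support_iff.mp hy))) hx)]
  · rw [if_neg hx]
    by_contra h
    exact hx (supp_mul ha (fun x => supp_br Q b) (Ne.symm h))

theorem fixd_of_supp {Q : Subgroup G} {a : MonoidAlgebra k G}
    (ha : ∀ x, a.coeff x ≠ 0 → x ∈ Subgroup.centralizer (Q : Set G)) : Fixd (Q : Set G) a := by
  intro u hu
  refine MonoidAlgebra.ext (Finsupp.ext fun x => ?_)
  rw [coeff_cj]
  by_cases hx : x ∈ Subgroup.centralizer (Q : Set G)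
  · rw [mul_assoc, ← Subgroup.mem_centralizer_iff.mp hx u hu, inv_mul_cancel_left]
  · have h1 : a.coeff x = 0 := by by_contra h; exact hx (ha x h)
    rw [h1]
    by_contra h
    have h2 := Subgroup.mem_centralizer_iff.mp (ha _ h) u hu
    have h3 : x = u * (u⁻¹ * x * u) * u⁻¹ := by group
    rw [h2, mul_inv_cancel_right] at h3
    exact hx (h3 ▸ ha _ h)

/-- The sum of the elements of a subgroup. -/
noncomputable def nrm [Finite G] (k : Type*) [Field k] (H : Subgroup G) : MonoidAlgebra k G :=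
  have := Fintype.ofFinite H
  ∑ u : H, MonoidAlgebra.single (u : G) (1 : k)

theorem nrm_def [Finite G] (H : Subgroup G) [Fintype H] :
    nrm k H = ∑ u : H, MonoidAlgebra.single (u : G) (1 : k) := by
  unfold nrm
  convert rfl

theorem coeff_nrm [Finite G] (H : Subgroup G) (x : G) :
    (nrm k H).coeff x = if x ∈ H then 1 else 0 := by
  have := Fintype.ofFinite H
  rw [nrm_def, MonoidAlgebra.coeff_sum, Finsupp.finsetSum_apply]
  by_cases hx : x ∈ H
  · rw [if_pos hx, Finset.sum_eq_single ⟨x, hx⟩]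
    · simp
    · intro u _ hu
      simp only [MonoidAlgebra.coeff_single, Finsupp.single_apply]
      exact if_neg fun h => hu (Subtype.ext h)
    · exact fun h => absurd (Finset.mem_univ _) h
  · rw [if_neg hx]
    refine Finset.sum_eq_zero fun u _ => ?_
    simp only [MonoidAlgebra.coeff_single, Finsupp.single_apply]
    exact if_neg fun h => hx (by rw [← h]; exact u.2)

theorem supp_nrm [Finite G] (H : Subgroup G) {x : G} (hx : (nrm k H).coeff x ≠ 0) : x ∈ H := by
  by_contra h
  rw [coeff_nrm, if_neg h] at hx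
  exact hx rfl

theorem br_nrm [Finite G] (P D : Subgroup G) :
    br D (nrm k P) = nrm k (P ⊓ Subgroup.centralizer (D : Set G)) := by
  refine MonoidAlgebra.ext (Finsupp.ext fun x => ?_)
  rw [coeff_br, coeff_nrm, coeff_nrm]
  simp only [Subgroup.mem_inf]
  split_ifs <;> tauto

theorem fixd_nrm [Finite G] {H : Subgroup G} {S : Set G}
    (hS : S ⊆ Subgroup.normalizer (H : Set G)) : Fixd S (nrm k H) := by
  intro u hu
  refine MonoidAlgebra.ext (Finsupp.ext fun x => ?_)
  rw [coeff_cj, coeff_nrm, coeff_nrm]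
  have h := Subgroup.mem_normalizer_iff.mp (hS hu) (u⁻¹ * x * u)
  rw [show u * (u⁻¹ * x * u) * u⁻¹ = x by group] at h
  by_cases hm : u⁻¹ * x * u ∈ H
  · rw [if_pos hm, if_pos (h.mp hm)]
  · rw [if_neg hm, if_neg fun hx => hm (h.mpr hx)]

theorem normalizer_le_centralizer (D : Subgroup G) :
    Subgroup.normalizer (D : Set G) ≤
      Subgroup.normalizer (Subgroup.centralizer (D : Set G) : Set G) := by
  intro g hg
  have key : ∀ g ∈ Subgroup.normalizer (D : Set G), ∀ c ∈ Subgroup.centralizer (D : Set G),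
      g * c * g⁻¹ ∈ Subgroup.centralizer (D : Set G) := fun g hg c hc =>
    Subgroup.mem_centralizer_iff.mpr fun y hy => by
      have := Subgroup.mem_centralizer_iff.mp hc _
        ((Subgroup.mem_normalizer_iff.mp (Subgroup.inv_mem _ hg) y).mp hy)
      rw [inv_inv] at this
      calc y * (g * c * g⁻¹) = g * (g⁻¹ * y * g * c) * g⁻¹ := by group
        _ = g * c * g⁻¹ * y := by rw [this]; group
  refine Subgroup.mem_normalizer_iff.mpr fun c => ⟨key g hg c, fun hc => ?_⟩
  have := key g⁻¹ (Subgroup.inv_mem _ hg) _ hc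
  simpa [mul_assoc] using this

/-- Left and right translation. -/
noncomputable def brep : G × G →* (MonoidAlgebra k G ≃ₗ[k] MonoidAlgebra k G) where
  toFun g :=
    LinearEquiv.ofLinearMap
      ((LinearMap.mulLeft k (MonoidAlgebra.of k G g.1)).comp
        (LinearMap.mulRight k (MonoidAlgebra.of k G g.2⁻¹)))
      ((LinearMap.mulLeft k (MonoidAlgebra.of k G g.1⁻¹)).comp
        (LinearMap.mulRight k (MonoidAlgebra.of k G g.2)))
      (LinearMap.ext fun w => by
        simp only [LinearMap.comp_apply, LinearMap.mulLeft_apply, LinearMap.mulRight_apply,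
          LinearMap.id_apply, mul_assoc, ← map_mul, mul_inv_cancel, map_one, mul_one]
        rw [← mul_assoc, ← map_mul, mul_inv_cancel, map_one, one_mul])
      (LinearMap.ext fun w => by
        simp only [LinearMap.comp_apply, LinearMap.mulLeft_apply, LinearMap.mulRight_apply,
          LinearMap.id_apply, mul_assoc, ← map_mul, inv_mul_cancel, map_one, mul_one]
        rw [← mul_assoc, ← map_mul, inv_mul_cancel, map_one, one_mul])
  map_one' := LinearEquiv.ext fun w => by
    show MonoidAlgebra.of k G (1 : G × G).1 * (w * MonoidAlgebra.of k G (1 : G × G).2⁻¹) = w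
    rw [Prod.fst_one, Prod.snd_one, inv_one, map_one, one_mul, mul_one]
  map_mul' a b := LinearEquiv.ext fun w => by
    show MonoidAlgebra.of k G (a * b).1 * (w * MonoidAlgebra.of k G (a * b).2⁻¹) =
      MonoidAlgebra.of k G a.1 * (MonoidAlgebra.of k G b.1 * (w * MonoidAlgebra.of k G b.2⁻¹) *
        MonoidAlgebra.of k G a.2⁻¹)
    simp only [Prod.fst_mul, Prod.snd_mul, mul_inv_rev, map_mul, mul_assoc]

theorem brep_apply (g : G × G) (w : MonoidAlgebra k G) :
    brep g w = MonoidAlgebra.of k G g.1 * w * MonoidAlgebra.of k G g.2⁻¹ :=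
  (mul_assoc _ _ _).symm

variable [Fintype G] {p : ℕ} [Fact p.Prime] [CharP k p] {P D : Subgroup G} {B : MonoidAlgebra k G}

/-- The Brauer image of a relative trace from a normal subgroup. -/
theorem br_trRel (hP : IsPGroup p P) (hDP : D ≤ P) {m : MonoidAlgebra k G}
    (hm : Fixd (D : Set G) m) :
    br D (trRel P D m) = trRel (P ⊓ Subgroup.normalizer (D : Set G)) D (br D m) := by
  set S := P ⊓ Subgroup.normalizer (D : Set G) with hS
  refine MonoidAlgebra.ext (Finsupp.ext fun x => ?_)
  rw [coeff_br, trRel_def, trRel_def, MonoidAlgebra.coeff_sum, MonoidAlgebra.coeff_sum,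
    Finsupp.finsetSum_apply, Finsupp.finsetSum_apply]
  have hsC : ∀ s : S, (s : G)⁻¹ * x * (s : G) ∈ Subgroup.centralizer (D : Set G) ↔
      x ∈ Subgroup.centralizer (D : Set G) := fun s => by
    have h := Subgroup.mem_normalizer_iff.mp (Subgroup.inv_mem _
      (Subgroup.mem_inf.mp s.2).2)
    simp only [inv_inv] at h
    constructor
    · intro hc
      refine Subgroup.mem_centralizer_iff.mpr fun y hy => ?_
      have := Subgroup.mem_centralizer_iff.mp hc _ ((h y).mp hy)
      calc y * x = (s : G) * ((s : G)⁻¹ * y * s * ((s : G)⁻¹ * x * s)) * (s : G)⁻¹ := by group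
        _ = x * y := by rw [this]; group
    · intro hc
      refine Subgroup.mem_centralizer_iff.mpr fun y hy => ?_
      have hy' : (s : G) * y * (s : G)⁻¹ ∈ D :=
        (Subgroup.mem_normalizer_iff.mp (Subgroup.mem_inf.mp s.2).2 y).mp hy
      have := Subgroup.mem_centralizer_iff.mp hc _ hy'
      calc y * ((s : G)⁻¹ * x * s) = (s : G)⁻¹ * ((s : G) * y * (s : G)⁻¹ * x) * s := by group
        _ = (s : G)⁻¹ * x * s * y := by rw [this]; group
  by_cases hx : x ∈ Subgroup.centralizer (D : Set G)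
  swap
  · rw [if_neg hx]
    refine (Finset.sum_eq_zero fun s _ => ?_).symm
    rw [coeff_cj, coeff_br, if_neg fun h => hx ((hsC _).mp h)]
  rw [if_pos hx]
  simp only [coeff_cj, coeff_br, if_pos ((hsC _).mpr hx)]
  let φ : D →* P := Subgroup.inclusion hDP
  let : MulAction D (P ⧸ D.subgroupOf P) := MulAction.compHom _ φ
  rw [sum_eq_sum_fixed (p := p) (H := D) (hP.to_le hDP)
    (fun q : P ⧸ D.subgroupOf P => m.coeff ((q.out : G)⁻¹ * x * (q.out : G))) ?_]
  swap
  · intro d q
    show m.coeff ((((φ d) • q).out : G)⁻¹ * x * (((φ d) • q).out : G)) = _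
    obtain ⟨e, he⟩ := QuotientGroup.mk_out_eq_mul (D.subgroupOf P) (φ d * q.out)
    have hq : (φ d) • q = ((φ d * q.out : P) : P ⧸ D.subgroupOf P) := by
      conv_lhs => rw [← QuotientGroup.out_eq' q]
      rfl
    rw [hq, he]
    have he' : ((e : P) : G) ∈ D := e.2
    rw [show (((φ d * q.out * e : P)) : G)⁻¹ * x * ((φ d * q.out * e : P) : G) =
      ((e : P) : G)⁻¹ * ((q.out : G)⁻¹ * ((d : G)⁻¹ * (x * d)) * (q.out : G)) * ((e : P) : G) by
        simp only [φ, Subgroup.coe_mul, Subgroup.coe_inclusion]; group,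
      hm.coeff he', ← Subgroup.mem_centralizer_iff.mp hx _ d.2, inv_mul_cancel_left]
  have hfix : ∀ q : P ⧸ D.subgroupOf P,
      q ∈ MulAction.fixedPoints D (P ⧸ D.subgroupOf P) ↔
        (q.out : G) ∈ Subgroup.normalizer (D : Set G) := by
    intro q
    have hiff : ∀ d : D, (φ d) • q = q ↔ (q.out : G)⁻¹ * d * (q.out : G) ∈ D := fun d => by
      conv_lhs => rw [← QuotientGroup.out_eq' q]
      show ((φ d * q.out : P) : P ⧸ D.subgroupOf P) = _ ↔ _
      rw [eq_comm, QuotientGroup.eq, Subgroup.mem_subgroupOf]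
      simp only [φ, Subgroup.coe_mul, Subgroup.coe_inv, Subgroup.coe_inclusion, mul_assoc]
    constructor
    · intro hq
      refine Subgroup.inv_mem_iff _ |>.mp ?_
      refine Subgroup.mem_normalizer_fintype fun y hy => ?_
      have := (hiff ⟨y, hy⟩).mp (hq ⟨y, hy⟩)
      simpa using this
    · intro hq d
      refine (hiff d).mpr ?_
      have := (Subgroup.mem_normalizer_iff.mp (Subgroup.inv_mem _ hq) d).mp d.2
      simpa using this
  symm
  refine Finset.sum_bij (fun (s : S ⧸ D.subgroupOf S) _ =>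
    ((⟨(s.out : G), (Subgroup.mem_inf.mp s.out.2).1⟩ : P) : P ⧸ D.subgroupOf P))
    (fun s _ => ?_) (fun s _ t _ h => ?_) (fun q hq => ?_) (fun s _ => ?_)
  · obtain ⟨e, he⟩ := QuotientGroup.mk_out_eq_mul (D.subgroupOf P)
      (⟨(s.out : G), (Subgroup.mem_inf.mp s.out.2).1⟩ : P)
    refine Finset.mem_filter.mpr ⟨Finset.mem_univ _, (hfix _).mpr ?_⟩
    rw [he]
    exact Subgroup.mul_mem _ (Subgroup.mem_inf.mp s.out.2).2
      (Subgroup.le_normalizer (e.2 : ((e : P) : G) ∈ D))
  · rw [← QuotientGroup.out_eq' s, ← QuotientGroup.out_eq' t, QuotientGroup.eq,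
      Subgroup.mem_subgroupOf]
    simpa [Subgroup.mem_subgroupOf] using QuotientGroup.eq.mp h
  · have hq' := (hfix q).mp (Finset.mem_filter.mp hq).2
    refine ⟨((⟨(q.out : G), Subgroup.mem_inf.mpr ⟨q.out.2, hq'⟩⟩ : S) : S ⧸ D.subgroupOf S),
      Finset.mem_univ _, ?_⟩
    obtain ⟨e, he⟩ := QuotientGroup.mk_out_eq_mul (D.subgroupOf S)
      (⟨(q.out : G), Subgroup.mem_inf.mpr ⟨q.out.2, hq'⟩⟩ : S)
    conv_rhs => rw [← QuotientGroup.out_eq' q]
    rw [QuotientGroup.eq, Subgroup.mem_subgroupOf]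
    simp only [Subgroup.coe_mul, Subgroup.coe_inv, he]
    simpa [mul_assoc] using D.inv_mem (e.2 : ((e : S) : G) ∈ D)
  · obtain ⟨e, he⟩ := QuotientGroup.mk_out_eq_mul (D.subgroupOf P)
      (⟨(s.out : G), (Subgroup.mem_inf.mp s.out.2).1⟩ : P)
    rw [he]
    have he' : ((e : P) : G) ∈ D := e.2
    conv_rhs => rw [show ((((⟨(s.out : G), (Subgroup.mem_inf.mp s.out.2).1⟩ : P) * e : P)) : G)⁻¹ *
      x * (((⟨(s.out : G), (Subgroup.mem_inf.mp s.out.2).1⟩ : P) * e : P) : G) =
      ((e : P) : G)⁻¹ * ((s.out : G)⁻¹ * x * (s.out : G)) * ((e : P) : G) by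
        simp only [Subgroup.coe_mul]; group]
    rw [hm.coeff he']

/-- The index set of the translates. -/
abbrev Idx (P D : Subgroup G) : Type _ := P × (P ⧸ D.subgroupOf P)

/-- The translate with index `i`. -/
noncomputable def tr2 (P D : Subgroup G) (m : MonoidAlgebra k G) (i : Idx P D) :
    MonoidAlgebra k G :=
  MonoidAlgebra.of k G (i.1 : G) * cj (i.2.out : G) m

/-- The action of a pair on indices. -/
def act (g : P × P) (i : Idx P D) : Idx P D := (g.1 * i.1 * g.2⁻¹, g.2 • i.2)

omit [Fintype G] in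
theorem tr2_act {m : MonoidAlgebra k G} (hm : Fixd (D : Set G) m) (g : P × P) (i : Idx P D) :
    tr2 P D m (act g i) = brep ((g.1 : G), (g.2 : G)) (tr2 P D m i) := by
  have hq : g.2 • i.2 = ((g.2 * i.2.out : P) : P ⧸ D.subgroupOf P) := by
    conv_lhs => rw [← QuotientGroup.out_eq' i.2]
    rfl
  obtain ⟨e, he⟩ := QuotientGroup.mk_out_eq_mul (D.subgroupOf P) (g.2 * i.2.out)
  rw [brep_apply]
  simp only [act, tr2, hq, he, Subgroup.coe_mul, Subgroup.coe_inv]
  have he' : ((e : P) : G) ∈ D := e.2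
  rw [← cj_cj, hm _ he', ← cj_cj]
  simp only [cj, map_mul, mul_assoc]
  rw [← mul_assoc (MonoidAlgebra.of k G (g.2 : G)⁻¹) (MonoidAlgebra.of k G (g.2 : G)), ← map_mul,
    inv_mul_cancel, map_one, one_mul]

theorem sum_tr2 (m : MonoidAlgebra k G) :
    ∑ i : Idx P D, tr2 P D m i = nrm k P * trRel P D m := by
  rw [nrm_def, trRel_def, Finset.sum_mul_sum, ← Finset.univ_product_univ, Finset.sum_product]
  rfl

/-- There are `|P| [P : D]` independent translates in the ideal of `B`. -/
theorem exists_indep (hP : IsPGroup p P) (hDP : D ≤ P) (hB : B * B = B)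
    (hBc : ∀ w, B * w = w * B) (hD0 : br D B ≠ 0)
    (hst : ∀ g, (br D B).coeff g ≠ 0 → ∀ r ∈ P ⊓ Subgroup.normalizer (D : Set G),
      r * g * r⁻¹ = g → r ∈ D) :
    ∃ m : MonoidAlgebra k G, Fixd (D : Set G) m ∧
      LinearIndependent k (tr2 P D m) ∧ ∀ i, B * tr2 P D m i = tr2 P D m i := by
  set C := Subgroup.centralizer (D : Set G) with hC
  set CP := P ⊓ C with hCP
  set S := P ⊓ Subgroup.normalizer (D : Set G) with hS
  set f := br D B with hf
  have hBfix : ∀ T : Set G, Fixd T B := fun T u _ => by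
    rw [cj, ← hBc, mul_assoc, ← map_mul, mul_inv_cancel, map_one, mul_one]
  have hfs : ∀ x, f.coeff x ≠ 0 → x ∈ C := fun x => supp_br D B
  have hff : f * f = f := by
    rw [hf, ← br_mul (hP.to_le hDP) (hBfix _) (hBfix _), hB]
  have hfS : Fixd (S : Set G) f :=
    (hBfix _).br fun s hs => (Subgroup.mem_inf.mp hs).2
  have hSN : (S : Set G) ⊆ Subgroup.normalizer (CP : Set G) := by
    intro s hs
    obtain ⟨hsP, hsN⟩ := Subgroup.mem_inf.mp hs
    refine Subgroup.mem_normalizer_fintype fun y hy => ?_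
    obtain ⟨hyP, hyC⟩ := Subgroup.mem_inf.mp hy
    exact Subgroup.mem_inf.mpr ⟨P.mul_mem (P.mul_mem hsP hyP) (P.inv_mem hsP),
      (Subgroup.mem_normalizer_iff.mp
        ((normalizer_le_centralizer D hsN)) y).mp hyC⟩
  -- a nonzero vector fixed by `C_P(D)` on the left and by `S` under conjugation
  let V : Submodule k (MonoidAlgebra k G) :=
    { carrier := {w | br D w = w ∧ w * f = w}
      zero_mem' := ⟨Cfsg.Agent.BC85.Star.br_zero D, zero_mul _⟩
      add_mem' := fun ha hb => ⟨by rw [Cfsg.Agent.BC85.Star.br_add, ha.1, hb.1],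
        by rw [add_mul, ha.2, hb.2]⟩
      smul_mem' := fun c w hw => ⟨by
        conv_rhs => rw [← hw.1]
        refine MonoidAlgebra.ext (Finsupp.ext fun x => ?_)
        simp only [coeff_br, MonoidAlgebra.coeff_smul, Finsupp.smul_apply]
        split_ifs <;> simp, by rw [smul_mul_assoc, hw.2]⟩ }
  have hofC : ∀ c ∈ C, ∀ x, (MonoidAlgebra.of k G c).coeff x ≠ 0 → x ∈ C := fun c hc x hx => by
    rw [MonoidAlgebra.of_apply, MonoidAlgebra.coeff_single, Finsupp.single_apply] at hx
    by_contra h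
    exact hx (if_neg fun e => h (by rw [← e]; exact hc))
  let ψ₁ : CP →* G × G := CP.subtype.prod 1
  obtain ⟨v₁, hv₁V, hv₁0, hv₁⟩ := BlockAlg8.exists_fixed_mem (K := k) (p := p)
    (hP.to_le inf_le_left) (brep.comp ψ₁) V (fun c w hw => by
      show brep (ψ₁ c) w ∈ V
      rw [brep_apply]
      simp only [ψ₁, MonoidHom.prod_apply, MonoidHom.one_apply, inv_one, map_one, mul_one,
        Subgroup.coe_subtype]
      exact ⟨by rw [br_mul_supp (hofC _ (Subgroup.mem_inf.mp c.2).2), hw.1],
        by rw [mul_assoc, hw.2]⟩)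
    (fun h => hD0 (by
      have : f ∈ V := ⟨Cfsg.Agent.BC85.Star.br_eq_self hfs, hff⟩
      rw [h] at this
      exact this))
  let V₂ : Submodule k (MonoidAlgebra k G) :=
    V ⊓ ⨅ c : CP, LinearMap.ker
      (LinearMap.mulLeft k (MonoidAlgebra.of k G (c : G)) - LinearMap.id)
  have hV₂ : ∀ w, w ∈ V₂ ↔ w ∈ V ∧ ∀ c : CP, MonoidAlgebra.of k G (c : G) * w = w := fun w => by
    simp [V₂, sub_eq_zero]
  let ψ₂ : S →* G × G := S.subtype.prod S.subtype
  have hψ₂ : ∀ (s : S) (w : MonoidAlgebra k G), brep (ψ₂ s) w = cj (s : G) w := fun s w => by rw [brep_apply]; rfl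
  obtain ⟨v, hvV, hv0, hvS⟩ := BlockAlg8.exists_fixed_mem (K := k) (p := p)
    (hP.to_le inf_le_left) (brep.comp ψ₂) V₂ (fun s w hw => by
      show brep (ψ₂ s) w ∈ V₂
      rw [hψ₂]
      obtain ⟨⟨h1, h2⟩, h3⟩ := (hV₂ w).mp hw
      refine (hV₂ _).mpr ⟨⟨?_, ?_⟩, fun c => ?_⟩
      · rw [← Cfsg.Agent.BC85.Star.cj_br (Subgroup.mem_inf.mp s.2).2, h1]
      · conv_lhs => rw [← hfS _ s.2]
        rw [← cj_mul, h2]
      · have hc' : (s : G)⁻¹ * c * s ∈ CP := by
          have := (Subgroup.mem_normalizer_iff.mp (Subgroup.inv_mem _ (hSN s.2)) c).mp c.2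
          simpa using this
        conv_rhs => rw [← h3 ⟨_, hc'⟩]
        simp only [cj, map_mul, mul_assoc]
        rw [← mul_assoc (MonoidAlgebra.of k G (s : G)) (MonoidAlgebra.of k G (s : G)⁻¹), ← map_mul,
          mul_inv_cancel, map_one, one_mul])
    (fun h => hv₁0 (by
      have : v₁ ∈ V₂ := (hV₂ v₁).mpr ⟨hv₁V, fun c => by
        have h2 := hv₁ c
        rw [MonoidHom.comp_apply, brep_apply] at h2
        simpa [ψ₁, ← MonoidAlgebra.one_def] using h2⟩
      rw [h] at this
      exact this))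
  obtain ⟨⟨hvbr, hvf⟩, hvC⟩ := (hV₂ v).mp hvV
  have : Fintype CP := Fintype.ofFinite CP
  obtain ⟨w, hw⟩ := BlockAlg8.exists_norm_eq CP (v := v) fun c => by
    rw [← MonoidAlgebra.of_apply]; exact hvC c
  rw [← nrm_def] at hw
  have hnC : ∀ x, (nrm k CP).coeff x ≠ 0 → x ∈ C := fun x hx =>
    (Subgroup.mem_inf.mp (supp_nrm CP hx)).2
  have hv' : v = nrm k CP * br D w := by rw [← br_mul_supp hnC, ← hw, hvbr]
  -- `f` is a trace from `D`
  have hDS : D ≤ S := le_inf hDP Subgroup.le_normalizer
  have : (D.subgroupOf S).Normal :=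
    Subgroup.normal_subgroupOf_of_le_normalizer inf_le_right
  obtain ⟨y, hyD, hys, hy⟩ := exists_trRel_eq hDS hfS hst
  have has : ∀ x, (br D w * y).coeff x ≠ 0 → x ∈ C := fun x =>
    supp_mul (fun x => supp_br D w) fun x hx => hfs x (hys x hx)
  set a := br D w * y with ha
  set m := a * B with hm
  have hmD : Fixd (D : Set G) m := (fixd_of_supp has).mul (hBfix _)
  refine ⟨m, hmD, ?_, fun i => ?_⟩
  swap
  · rw [tr2, hm, cj_mul, hBfix {(i.2.out : G)} _ rfl, hBc, mul_assoc, mul_assoc, hB]
  set z := ∑ i : Idx P D, tr2 P D m i with hz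
  have hz0 : z ≠ 0 := by
    intro h0
    apply hv0
    have h1 : br D z = v := by
      rw [hz, sum_tr2, br_mul (hP.to_le hDP) (fixd_nrm (hDP.trans Subgroup.le_normalizer))
        ((fixd_trRel hmD).mono hDP), br_nrm, br_trRel hP hDP hmD, hm, br_mul_supp has, ← hf,
        ← hCP, ← hS, ← mul_one (nrm k CP * trRel S D (a * f)),
        mul_trRel_mul (fixd_nrm hSN) (Fixd.one _), mul_one, ha]
      have hvS' : Fixd (S : Set G) v := fun s hs => by
        have h2 := hvS ⟨s, hs⟩
        rwa [MonoidHom.comp_apply, hψ₂] at h2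
      rw [show nrm k CP * (br D w * y * f) = v * y * f by rw [hv']; simp only [mul_assoc],
        ← mul_trRel_mul hvS' hfS, hy, hvf, hvf]
    rw [← h1, h0, Cfsg.Agent.BC85.Star.br_zero]
  -- a dependence would have a fixed one
  let L : (Idx P D → k) →ₗ[k] MonoidAlgebra k G := Fintype.linearCombination k (tr2 P D m)
  have hL : ∀ c, L c = ∑ i, c i • tr2 P D m i := fun c => Fintype.linearCombination_apply k _ c
  rw [Fintype.linearIndependent_iff]
  intro c hc i
  by_contra hi
  have hact : ∀ (g h : P × P) (i : Idx P D), act (g * h) i = act g (act h i) := fun g h i => by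
    simp only [act, Prod.fst_mul, Prod.snd_mul, mul_inv_rev, mul_smul, mul_assoc]
  have hact1 : ∀ i : Idx P D, act (1 : P × P) i = i := fun i => by simp [act]
  let σ : P × P →* ((Idx P D → k) ≃ₗ[k] (Idx P D → k)) :=
    { toFun := fun g => LinearEquiv.funCongrLeft k k
        { toFun := act g⁻¹, invFun := act g,
          left_inv := fun i => by rw [← hact, mul_inv_cancel, hact1]
          right_inv := fun i => by rw [← hact, inv_mul_cancel, hact1] }
      map_one' := LinearEquiv.ext fun c => funext fun i => by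
        show c (act (1 : P × P)⁻¹ i) = c i
        rw [inv_one, hact1]
      map_mul' := fun g h => LinearEquiv.ext fun c => funext fun i => by
        show c (act (g * h)⁻¹ i) = c (act h⁻¹ (act g⁻¹ i))
        rw [mul_inv_rev, hact] }
  have hσ : ∀ (g : P × P) (c : Idx P D → k), L (σ g c) = brep ((g.1 : G), (g.2 : G)) (L c) := by
    intro g c
    simp only [hL, map_sum, map_smul]
    refine Fintype.sum_equiv ⟨act g⁻¹, act g, fun i => by rw [← hact, mul_inv_cancel, hact1],
      fun i => by rw [← hact, inv_mul_cancel, hact1]⟩ _ _ fun i => ?_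
    show c (act g⁻¹ i) • _ = c (act g⁻¹ i) • _
    rw [← tr2_act hmD]
    show _ = _ • tr2 P D m (act g (act g⁻¹ i))
    rw [← hact, mul_inv_cancel, hact1]
  have hPP : IsPGroup p (P × P) := by
    obtain ⟨j, hj⟩ := hP.exists_card_eq
    exact IsPGroup.of_card (n := j + j) (by rw [Nat.card_prod, hj, pow_add])
  obtain ⟨c', hc'K, hc'0, hc'⟩ := BlockAlg8.exists_fixed_mem (K := k) (p := p)
    (P := P × P) hPP σ (LinearMap.ker L)
    (fun g x hx => by rw [LinearMap.mem_ker, hσ, LinearMap.mem_ker.mp hx, map_zero])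
    (fun h => hi (by
      have : c ∈ LinearMap.ker L := by rw [LinearMap.mem_ker, hL]; exact hc
      rw [h, Submodule.mem_bot] at this
      rw [this]; rfl))
  have hconst : ∀ i, c' i = c' (1, ((1 : P) : P ⧸ D.subgroupOf P)) := by
    rintro ⟨u, q⟩
    have h := congrFun (hc' (u * q.out, q.out)⁻¹) (1, ((1 : P) : P ⧸ D.subgroupOf P))
    refine Eq.trans ?_ h
    show c' (u, q) = c' (act (u * q.out, q.out)⁻¹⁻¹ (1, _))
    congr 1
    rw [inv_inv, act]
    refine Prod.ext ?_ ?_
    · simp
    · show q = ((q.out * 1 : P) : P ⧸ D.subgroupOf P)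
      rw [mul_one, QuotientGroup.out_eq']
  refine hc'0 (funext fun i => ?_)
  have h := LinearMap.mem_ker.mp hc'K
  rw [hL, Finset.sum_congr rfl fun i _ => by rw [hconst i], ← Finset.smul_sum, ← hz] at h
  rw [hconst i]
  exact (smul_eq_zero.mp h).resolve_right hz0

/-- If the translates span the ideal, `P` induces every fusion of its subgroups with nonzero
Brauer image. -/
theorem exists_induced (hP : IsPGroup p P) (hBc : ∀ w, B * w = w * B) {m : MonoidAlgebra k G}
    (hmD : Fixd (D : Set G) m) (hli : LinearIndependent k (tr2 P D m))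
    (hspan : ∀ x : G, MonoidAlgebra.of k G x * B ∈ Submodule.span k (Set.range (tr2 P D m)))
    {Q : Subgroup G} (hQP : Q ≤ P) {x : G} (hx : ∀ q ∈ Q, x * q * x⁻¹ ∈ P)
    (hQ : ∃ c ∈ Subgroup.centralizer (Q : Set G), B.coeff c ≠ 0) :
    ∃ u ∈ P, ∀ q ∈ Q, x * q * x⁻¹ = u * q * u⁻¹ := by
  obtain ⟨y, hy, hy0⟩ := hQ
  obtain ⟨c, hc⟩ := (Submodule.mem_span_range_iff_exists_fun k).mp (hspan x)
  let ψ : Q →* P × P :=
    MonoidHom.prod
      { toFun := fun q => ⟨x * q * x⁻¹, hx q q.2⟩
        map_one' := Subtype.ext (by simp)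
        map_mul' := fun a b => Subtype.ext (by simp [mul_assoc]) }
      (Subgroup.inclusion hQP)
  have hψ1 : ∀ q : Q, (((ψ q).1 : P) : G) = x * q * x⁻¹ := fun q => rfl
  have hψ2 : ∀ q : Q, (((ψ q).2 : P) : G) = q := fun q => rfl
  let : MulAction Q (Idx P D) :=
    { smul := fun q i => act (ψ q) i
      one_smul := fun i => by
        show act (ψ 1) i = i
        rw [map_one]
        simp [act]
      mul_smul := fun a b i => by
        show act (ψ (a * b)) i = act (ψ a) (act (ψ b) i)
        rw [map_mul]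
        simp only [act, Prod.fst_mul, Prod.snd_mul, mul_inv_rev, mul_smul, mul_assoc] }
  have hsm : ∀ (q : Q) (i : Idx P D), q • i = act (ψ q) i := fun q i => rfl
  have hinvc : ∀ (q : Q) i, c (q • i) = c i := by
    intro q
    have h1 : ∑ i, c (q⁻¹ • i) • tr2 P D m i = ∑ i, c i • tr2 P D m i := by
      have h2 : brep (((ψ q).1 : G), ((ψ q).2 : G)) (MonoidAlgebra.of k G x * B) =
          MonoidAlgebra.of k G x * B := by
        rw [brep_apply]
        show MonoidAlgebra.of k G (x * q * x⁻¹) * (MonoidAlgebra.of k G x * B) *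
          MonoidAlgebra.of k G (q : G)⁻¹ = _
        rw [mul_assoc, mul_assoc (MonoidAlgebra.of k G x), hBc, ← mul_assoc (MonoidAlgebra.of k G x),
          ← mul_assoc, ← map_mul, ← map_mul,
          show x * q * x⁻¹ * (x * (q : G)⁻¹) = x by group]
      rw [hc, ← h2, ← hc, map_sum]
      refine Fintype.sum_equiv (MulAction.toPerm q⁻¹) _ _ fun i => ?_
      rw [MulAction.toPerm_apply, map_smul, ← tr2_act hmD, ← hsm, smul_inv_smul]
    have h3 := Fintype.linearIndependent_iff.mp hli (fun i => c (q⁻¹ • i) - c i) (by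
      simp only [sub_smul, Finset.sum_sub_distrib, h1, sub_self])
    intro i
    have h4 := h3 (q • i)
    rw [sub_eq_zero, inv_smul_smul] at h4
    exact h4.symm
  by_contra hne
  push Not at hne
  have hnofix : ∀ i : Idx P D, i ∉ MulAction.fixedPoints Q (Idx P D) := by
    rintro ⟨u, r⟩ hi
    obtain ⟨q, hq, hq'⟩ := hne u u.2
    have h := congrArg (fun i : Idx P D => ((i.1 : P) : G)) (hi ⟨q, hq⟩)
    simp only [hsm, act, Subgroup.coe_mul, Subgroup.coe_inv, hψ1, hψ2] at h
    exact hq' (eq_mul_inv_of_mul_eq (mul_inv_eq_iff_eq_mul.mp h))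
  have h0 : (MonoidAlgebra.of k G x * B).coeff (x * y) = 0 := by
    rw [← hc, MonoidAlgebra.coeff_sum, Finsupp.finsetSum_apply,
      sum_eq_sum_fixed (p := p) (hP.to_le hQP) _ ?_]
    · exact Finset.sum_eq_zero fun i hi => absurd (Finset.mem_filter.mp hi).2 (hnofix i)
    · intro q i
      simp only [MonoidAlgebra.coeff_smul, Finsupp.smul_apply, hinvc]
      simp only [hsm, tr2_act hmD, brep_apply, hψ1, hψ2, coeff_mul_of, coeff_of_mul, inv_inv]
      congr 2
      rw [show x * y * (q : G) = x * (q : G) * y by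
        rw [mul_assoc, ← Subgroup.mem_centralizer_iff.mp hy _ q.2, ← mul_assoc]]
      group
  rw [coeff_of_mul, inv_mul_cancel_left] at h0
  exact hy0 h0

end Cfsg.Agent.BC79
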