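import Cfsg.Agent.BC79.MinDim
import Cfsg.Agent.BlockAlg8.TwoChar
import Cfsg.Agent.BC85.Pairs.NilpotentFusion
import Cfsg.Agent.BC85.Pairs.Maximal

/-!
# Blocks of least dimension

If the squares of the degrees in a block with defect group `D` sum to `p ^ (2 a - d)`, then the
block algebra modulo the local ideal is one orbit of `P × P`, and the block is nilpotent.
-/

set_option autoImplicit false

namespace Cfsg.Agent.BC79

open BlocksCore BlocksDefect MonoidAlgebra
open scoped ComplexConjugate Classical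

universe u

variable {G : Type u} [Group G] [Fintype G] {p : ℕ} {M : Ideal AlgInt} [M.IsPrime]

/-- The ideal of a block idempotent has the sum of the squares of the degrees as dimension. -/
theorem finrank_mulLeft_blockCoeff (hM : IsPModular p M) {B : Set (IrrCharacter G)}
    (hB : IsPBlock M B) :
    Module.finrank (Res M)
      (LinearMap.range (LinearMap.mulLeft (Res M) (toAlg M (blockCoeff B)))) =
      ∑ᶠ χ ∈ B, charDegree (χ : G → ℂ) ^ 2 := by
  have := finite_irr (G := G)
  have := Fintype.ofFinite (IrrCharacter G)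
  have := hM.2.1
  set eC := blockCoeff B with heC
  have heI : IsIntClassFun M eC := isIntClassFun_blockCoeff hM hB
  apply Nat.cast_injective (R := ℂ)
  let Φ : MonoidAlgebra (Res M) G ≃ₗ[Res M] (G → Res M) :=
    (coeffLinearEquiv (Res M)).trans (Finsupp.linearEquivFunOnFinite (Res M) (Res M) G)
  let E : G → G → ℂ := fun x y => eC (x * y⁻¹)
  have hidem : ∀ x z, ∑ y, E x y * E y z = E x z := fun x z => by
    have h := congrFun (conv_blockCoeff_self (G := G) B) (x * z⁻¹)
    rw [conv_apply] at h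
    show _ = eC (x * z⁻¹)
    rw [heC, ← h]
    refine Fintype.sum_equiv ((Equiv.inv G).trans (Equiv.mulLeft x)) _ _ fun y => ?_
    simp only [Equiv.trans_apply, Equiv.inv_apply, Equiv.coe_mulLeft, E, heC]
    congr 2
    group
  have hE := BlockAlg8.finrank_range_red (fun x y => heI.2 (x * y⁻¹)) hidem
  have hconj : (Matrix.toLin' (Matrix.of fun x y => red M (E x y))).comp Φ.toLinearMap =
      Φ.toLinearMap.comp (LinearMap.mulLeft (Res M) (toAlg M eC)) := by
    refine LinearMap.ext fun z => funext fun x => ?_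
    simp only [LinearMap.comp_apply, Matrix.toLin'_apply, Matrix.mulVec, dotProduct,
      LinearMap.mulLeft_apply, LinearEquiv.coe_coe]
    show ∑ y, red M (E x y) * z.coeff y = (toAlg M eC * z).coeff x
    rw [BlockAlg8.coeff_mul_eq]
    refine Fintype.sum_equiv ((Equiv.inv G).trans (Equiv.mulLeft x)) _ _ fun y => ?_
    simp only [Equiv.trans_apply, Equiv.inv_apply, Equiv.coe_mulLeft, BlockAlg8.coeff_toAlg, E]
    congr 2
    group
  have hr : LinearMap.range (Matrix.toLin' (Matrix.of fun x y => red M (E x y))) =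
      (LinearMap.range (LinearMap.mulLeft (Res M) (toAlg M eC))).map Φ.toLinearMap := by
    rw [← LinearMap.range_comp, ← hconj, LinearMap.range_comp_of_range_eq_top]
    exact LinearEquiv.range Φ
  rw [hr, LinearEquiv.finrank_map_eq] at hE
  rw [hE]
  simp only [mul_inv_cancel, Finset.sum_const, Finset.card_univ, nsmul_eq_mul, heC,
    blockCoeff, ← Nat.card_eq_fintype_card]
  rw [mul_inv_cancel_left₀ (Nat.cast_ne_zero.mpr Nat.card_pos.ne'), finsum_mem_eq_toFinset_sum,
    finsum_mem_eq_toFinset_sum, Nat.cast_sum]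
  refine Finset.sum_congr rfl fun χ _ => ?_
  rw [irr_one_eq, Complex.conj_natCast, Nat.cast_pow]
  ring

theorem nilpotent_of_sum_sq [Fact p.Prime] (hM : IsPModular p M) {B : Set (IrrCharacter G)}
    (hB : IsPBlock M B) {D : Subgroup G} (hD : IsDefectGroup p M B D) {a d : ℕ}
    (ha : (Nat.card G).factorization p = a) (hd : Nat.card D = p ^ d)
    (hmin : ∑ᶠ χ ∈ B, charDegree (χ : G → ℂ) ^ 2 = p ^ (2 * a - d)) :
    IsNilpotentBlock p M B := by
  have := charP_residue (M := M) hM
  refine ⟨hB, fun Q e hQe x hx _ hreg => ?_⟩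
  obtain ⟨g, hg⟩ := BC85.pairOf_subConj_defect hM hD hQe
  set D' := D.map (MulAut.conj g⁻¹).toMonoidHom with hD'def
  have hD' : IsDefectGroup p M B D' := isDefectGroup_map_conj hM hB hD g⁻¹
  have hQD : Q ≤ D' := map_conj_inv_le hg
  have hdc : Nat.card D' = p ^ d := by rw [hD'def, natCard_map_conj, hd]
  have hDp : IsPGroup p D' := isPGroup_of_isDefectGroup hD'
  obtain ⟨P, hP⟩ := hDp.exists_le_sylow
  have heI : IsIntClassFun M (blockCoeff B) := isIntClassFun_blockCoeff hM hB
  set e₀ := toAlg M (blockCoeff B) with he₀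
  have he : e₀ * e₀ = e₀ := by rw [he₀, ← toAlg_conv heI.2 heI.2, conv_blockCoeff_self]
  have hc : ∀ w, e₀ * w = w * e₀ := BlockAlg8.toAlg_mul_comm heI.1
  have hcoeff : ∀ y, e₀.coeff y ≠ 0 ↔ ¬ MemLocalIdeal M (blockCoeff B y) := fun y => by
    rw [he₀, BlockAlg8.coeff_toAlg, not_iff_not, red_of_mem (heI.2 y), Ideal.Quotient.eq_zero_iff_mem,
      mem_localIdeal_iff]
  obtain ⟨c₀, hc₀, hu₀⟩ := (exists_coeff_mem_centralizer_iff hM hB hD' hDp).mpr
    ⟨1, le_of_eq (map_conj_one D')⟩
  obtain ⟨m, hm, hli, hfix⟩ := exists_indep (k := Res M) (p := p) (B := e₀) (D := D') P.isPGroup'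
    hP he hc (fun h => (hcoeff c₀).mpr hu₀ (by
      have h1 := congrArg (fun w : MonoidAlgebra (Res M) G => w.coeff c₀) h
      simpa [BC85.Star.coeff_br, if_pos hc₀] using h1))
    (fun y hy r hr hfix => by
      have hyC := supp_br D' e₀ hy
      rw [BC85.Star.coeff_br, if_pos hyC] at hy
      have hrP : r ∈ (P : Subgroup G) := (Subgroup.mem_inf.mp hr).1
      set R := D' ⊔ Subgroup.zpowers r with hR
      have hRP : R ≤ (P : Subgroup G) := sup_le hP (Subgroup.zpowers_le.mpr hrP)
      have hRy : y ∈ Subgroup.centralizer (R : Set G) := by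
        rw [← le_centralizer_singleton_iff]
        refine sup_le (le_centralizer_singleton_iff.mpr hyC) (Subgroup.zpowers_le.mpr ?_)
        exact mem_centralizer_singleton.mpr (mul_inv_eq_iff_eq_mul.mp hfix)
      have h1 := Nat.le_of_dvd Nat.card_pos (SubConj.card_dvd (subConj_defectGroup_of_coeff hM hB
        hD' (P.isPGroup'.to_le hRP) hRy ((hcoeff y).mp hy)))
      rw [Subgroup.eq_of_le_of_card_ge (le_sup_left : D' ≤ R) h1]
      exact Subgroup.mem_sup_right (Subgroup.mem_zpowers r))
  have hcard : Nat.card (Idx (P : Subgroup G) D') = p ^ (2 * a - d) := by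
    have hPc : Nat.card (P : Subgroup G) = p ^ a := by rw [P.card_eq_multiplicity, ha]
    have h1 := (D'.subgroupOf (P : Subgroup G)).card_mul_index
    rw [Nat.card_congr (Subgroup.subgroupOfEquivOfLe hP).toEquiv, hdc, hPc] at h1
    have hda : d ≤ a := (Nat.pow_le_pow_iff_right (Fact.out : p.Prime).one_lt).mp
      (h1 ▸ Nat.le_mul_of_pos_right _ (Nat.pos_of_ne_zero Subgroup.FiniteIndex.index_ne_zero))
    rw [Nat.card_prod, hPc, ← Subgroup.index_eq_card]
    refine Nat.eq_of_mul_eq_mul_left (pow_pos (Fact.out : p.Prime).pos d) ?_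
    rw [← mul_assoc, mul_comm (p ^ d) (p ^ a), mul_assoc, h1, ← pow_add, ← pow_add]
    congr 1
    omega
  have hle : Submodule.span (Res M) (Set.range (tr2 (P : Subgroup G) D' m)) ≤
      LinearMap.range (LinearMap.mulLeft (Res M) e₀) := by
    rw [Submodule.span_le]
    rintro _ ⟨i, rfl⟩
    exact ⟨_, hfix i⟩
  have hspan : Submodule.span (Res M) (Set.range (tr2 (P : Subgroup G) D' m)) =
      LinearMap.range (LinearMap.mulLeft (Res M) e₀) := by
    refine Submodule.eq_of_le_of_finrank_le hle (le_of_eq ?_)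
    rw [finrank_span_eq_card hli, he₀, finrank_mulLeft_blockCoeff hM hB, hmin, ← hcard,
      Nat.card_eq_fintype_card]
  obtain ⟨u, hu, huQ⟩ := exists_induced (p := p) P.isPGroup' hc hm hli
    (fun y => by rw [hspan]; exact ⟨MonoidAlgebra.of (Res M) G y, hc _⟩) (hQD.trans hP)
    (x := x) (fun q hq => hP (hQD ((Subgroup.mem_normalizer_iff.mp hx q).mp hq))) (by
      obtain ⟨c, hc, hu⟩ := (exists_coeff_mem_centralizer_iff hM hB hD' (hDp.to_le hQD)).mpr
        ⟨1, by rw [map_conj_one]; exact hQD⟩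
      exact ⟨c, hc, (hcoeff c).mpr hu⟩)
  exact BC85.mem_centralizer_of_induced P.isPGroup' hx hreg hu huQ

end Cfsg.Agent.BC79
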