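import Cfsg.Agent.BlockAlg8.Algebra
import Cfsg.Agent.BC79.LocalSymm

/-!
# The corner of a block of a symmetric algebra with a single simple module and small trace space

Such a block is a matrix algebra over a local algebra whose dimension is at most the dimension of
the trace space, when this is at most four.
-/

set_option autoImplicit false

namespace Cfsg.Agent.BC79.SmallCorner

open BlockAlg8 LocalSymm

variable {K A : Type*} [Field K] [Ring A] [Algebra K A] [FiniteDimensional K A]
variable {n : ℕ} [NeZero n] (e : A) (π : A →ₐ[K] Matrix (Fin n) (Fin n) K)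

/-- The shape of the block. -/
theorem block_shape (he : e * e = e) (hc : ∀ a, e * a = a * e)
    (hπs : Function.Surjective π) (hπe : π e = 1) (hπJ : ∀ z ∈ Ring.jacobson A, π z = 0)
    (hπ0 : ∀ z, e * z = z → π z = 0 → z ∈ Ring.jacobson A)
    (lam : A →ₗ[K] K) (hsym : ∀ a b, lam (a * b) = lam (b * a))
    (hnd : ∀ x, (∀ y, lam (x * y) = 0) → x = 0) {k : ℕ} (hk4 : k ≤ 4) (T : A →ₗ[K] Fin k → K)
    (hT : ∀ x, e * x = x → T x = 0 → x ∈ commSpan K A) :
    ∃ (r : ℕ) (f : A), f * f = f ∧ 0 < r ∧ r ≤ k ∧
      Module.finrank K (LinearMap.range (LinearMap.mulLeft K e)) = n * n * r ∧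
      Module.finrank K (LinearMap.range (LinearMap.mulRight K f)) = n * r := by
  classical
  have : IsArtinianRing A := IsArtinianRing.of_finite K A
  obtain ⟨f, U, V, hff, hef, hπf, hπU, hπV, hUf, hfV, heU, hVe, hUV⟩ :=
    exists_units e π he hc hπs hπe hπJ hπ0
  obtain ⟨NJ, hNJ⟩ := exists_jacobson_pow (A := A)
  set J := Ring.jacobson A with hJ
  have hf0 : f ≠ 0 := fun h => by
    have := congrFun (congrFun hπf 0) 0
    simp [h] at this
  have hfJ : f ∉ J := fun h => by
    have := congrFun (congrFun hπf 0) 0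
    simp [hπJ f h] at this
  -- the corner and its radical
  let C : Submodule K A :=
    { carrier := {z | f * z = z ∧ z * f = z}
      zero_mem' := ⟨mul_zero f, zero_mul f⟩
      add_mem' := fun {a b} ha hb => ⟨by rw [mul_add, ha.1, hb.1], by rw [add_mul, ha.2, hb.2]⟩
      smul_mem' := fun c a ha => ⟨by rw [mul_smul_comm, ha.1], by rw [smul_mul_assoc, ha.2]⟩ }
  have hCdef : ∀ z, z ∈ C ↔ f * z = z ∧ z * f = z := fun z => Iff.rfl
  let P : Submodule K A :=
    { carrier := {z | z ∈ C ∧ z ∈ J}
      zero_mem' := ⟨C.zero_mem, J.zero_mem⟩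
      add_mem' := fun {a b} ha hb => ⟨C.add_mem ha.1 hb.1, J.add_mem ha.2 hb.2⟩
      smul_mem' := fun c a ha => ⟨C.smul_mem c ha.1, by
        rw [Algebra.smul_def]; exact J.mul_mem_left _ ha.2⟩ }
  have hfC : f ∈ C := ⟨hff, hff⟩
  have hCmul : ∀ x ∈ C, ∀ y ∈ C, x * y ∈ C := fun x hx y hy =>
    ⟨by rw [← mul_assoc, hx.1], by rw [mul_assoc, hy.2]⟩
  have hCA : ∀ y, f * y * f ∈ C := fun y =>
    ⟨by rw [← mul_assoc, ← mul_assoc, hff], by rw [mul_assoc, hff]⟩
  have hfe : f * e = f := by rw [← hc, hef]
  have hdecomp : ∀ z ∈ C, ∃ l : K, ∃ u ∈ P, z = l • f + u := by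
    intro z hz
    refine ⟨π z 0 0, z - π z 0 0 • f, ⟨C.sub_mem hz (C.smul_mem _ hfC), hπ0 _ ?_ ?_⟩, by abel⟩
    · rw [mul_sub, mul_smul_comm, hef]
      congr 1
      rw [← hz.1, ← mul_assoc, hef]
    · rw [map_sub, map_smul, hπf, Matrix.smul_single, smul_eq_mul, mul_one]
      conv_lhs => enter [1]; rw [← hz.2, ← hz.1]
      rw [map_mul, map_mul, hπf, Matrix.single_mul_mul_single, one_mul, mul_one, sub_self]
  have hP : P * P ≤ P := Submodule.mul_le.mpr fun x hx y hy =>
    ⟨hCmul x hx.1 y hy.1, J.mul_mem_left _ hy.2⟩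
  have hnil : P ^ (NJ + 1) = ⊥ := by
    have hmem : ∀ m : ℕ, ∀ z ∈ P ^ (m + 1), z ∈ J ^ (m + 1) := by
      intro m
      induction m with
      | zero => intro z hz; rw [pow_one] at hz; rw [Submodule.pow_one]; exact hz.2
      | succ m ih =>
        intro z hz
        rw [pow_succ] at hz
        refine Submodule.mul_induction_on hz (fun x hx y hy => ?_) fun x y hx hy => add_mem hx hy
        rw [Submodule.pow_succ]
        exact Ideal.mul_mem_mul (ih x hx) hy.2
    refine (Submodule.eq_bot_iff _).mpr fun z hz => ?_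
    have h1 := Ideal.pow_le_pow_right (NJ.le_succ) (hmem NJ z hz)
    rwa [hJ, hNJ, Ideal.mem_bot] at h1
  set Kc := comSpan P with hKc
  have hsKc : ∀ z ∈ Kc, lam z = 0 := fun z hz => by
    refine map_comm_zero hsym (Submodule.span_mono ?_ hz)
    rintro _ ⟨a, -, b, -, rfl⟩
    exact ⟨a, b, rfl⟩
  have hKcC : ∀ z ∈ Kc, z ∈ P := fun z hz => pow_succ_le hP 1 (comSpan_le_sq hz)
  have hann : ∀ z ∈ comSpan P, (∀ w ∈ P, z * w = 0) → z = 0 := by
    intro z hz hw
    refine hnd z fun y => ?_
    have hzC := (hKcC z hz).1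
    obtain ⟨l, u, hu, he'⟩ := hdecomp _ (hCA y)
    have h1 : lam (z * y) = lam (z * (f * y * f)) := by
      conv_lhs => rw [← hzC.2, ← hzC.1]
      rw [mul_assoc (f * z) f y, mul_assoc f z (f * y), hsym]
      simp only [mul_assoc]
    rw [h1, he', mul_add, mul_smul_comm, hzC.2, hw u hu, add_zero, map_smul, hsKc z hz, smul_zero]
  have hcomC : ∀ x ∈ C, ∀ y ∈ C, x * y - y * x ∈ Kc := by
    intro x hx y hy
    obtain ⟨l, u, hu, rfl⟩ := hdecomp x hx
    obtain ⟨l', u', hu', rfl⟩ := hdecomp y hy
    have e1 : (l • f + u) * (l' • f + u') - (l' • f + u') * (l • f + u) = u * u' - u' * u := by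
      simp only [add_mul, mul_add, smul_mul_assoc, mul_smul_comm, hu.1.1, hu.1.2, hu'.1.1,
        hu'.1.2, smul_add, smul_smul, mul_comm l l', hff]
      abel
    rw [e1]
    exact Submodule.subset_span ⟨u, hu, u', hu', rfl⟩
  -- commutators of the algebra meeting the corner are commutators of the corner
  let L : A →ₗ[K] A :=
    ∑ a, (LinearMap.mulLeft K (V a)).comp (LinearMap.mulRight K (U a))
  have hLdef : ∀ x, L x = ∑ a, V a * (x * U a) := fun x => by simp [L, LinearMap.sum_apply]
  have hVU : ∀ (a b : Fin n) (x : A), V a * (x * U b) ∈ C := fun a b x =>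
    ⟨by rw [← mul_assoc, hfV], by rw [mul_assoc, mul_assoc, hUf]⟩
  have hLcomm : ∀ x ∈ commSpan K A, L x ∈ Kc := by
    intro x hx
    refine (Submodule.span_le (p := Kc.comap L)).mpr ?_ hx
    rintro _ ⟨x, y, rfl⟩
    have hexp : ∀ x y, ∀ a, V a * (x * y * U a) = ∑ b, (V a * (x * U b)) * (V b * (y * U a)) := by
      intro x y a
      calc V a * (x * y * U a) = V a * (e * (x * (y * U a))) := by
            rw [hVe, mul_assoc x y]
        _ = V a * (x * (∑ b, U b * V b) * (y * U a)) := by
            rw [hUV, ← mul_assoc e x, hc x]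
        _ = _ := by
            simp only [Finset.mul_sum, Finset.sum_mul, mul_assoc]
    rw [SetLike.mem_coe, Submodule.mem_comap, map_sub, hLdef, hLdef,
      Finset.sum_congr rfl fun a _ => hexp x y a, Finset.sum_congr rfl fun a _ => hexp y x a]
    rw [Finset.sum_comm (f := fun a b => V a * (y * U b) * (V b * (x * U a)))]
    rw [← Finset.sum_sub_distrib]
    refine Submodule.sum_mem _ fun a _ => ?_
    rw [← Finset.sum_sub_distrib]
    exact Submodule.sum_mem _ fun b _ => hcomC _ (hVU a b x) _ (hVU b a y)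
  have hLid : ∀ z ∈ C, L z - z ∈ Kc := by
    intro z hz
    have hVf : ∀ a, V a * f ∈ C := fun a => ⟨by rw [← mul_assoc, hfV], by rw [mul_assoc, hff]⟩
    have hzU : ∀ a, z * U a ∈ C := fun a => ⟨by rw [← mul_assoc, hz.1], by rw [mul_assoc, hUf]⟩
    have hsum : z = ∑ a, z * U a * (V a * f) := by
      calc z = z * e * f := by rw [mul_assoc, hef, hz.2]
        _ = _ := by
          rw [← hUV, Finset.mul_sum, Finset.sum_mul]
          simp only [mul_assoc]
    have hL : L z = ∑ a, V a * f * (z * U a) := by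
      rw [hLdef]
      refine Finset.sum_congr rfl fun a _ => ?_
      rw [mul_assoc (V a) f, ← mul_assoc f z, hz.1]
    have h2 : L z - z = ∑ a, (V a * f * (z * U a) - z * U a * (V a * f)) := by
      rw [Finset.sum_sub_distrib, ← hL, ← hsum]
    rw [h2]
    exact Submodule.sum_mem _ fun a _ => hcomC _ (hVf a) _ (hzU a)
  have hTC : ∀ z ∈ C, T z = 0 → z ∈ Kc := by
    intro z hz h0
    have hez : e * z = z := by rw [← hz.1, ← mul_assoc, hef]
    have := Kc.sub_mem (hLcomm z (hT z hez h0)) (hLid z hz)
    rwa [sub_sub_cancel] at this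
  -- dimensions of the corner
  have hdimC : Module.finrank K C = 1 + Module.finrank K P := by
    have hdisj : Submodule.span K {f} ⊓ P = ⊥ := by
      refine (Submodule.eq_bot_iff _).mpr fun z hz => ?_
      obtain ⟨c, rfl⟩ := Submodule.mem_span_singleton.mp hz.1
      by_cases hc0 : c = 0
      · rw [hc0, zero_smul]
      · refine absurd ?_ hfJ
        have := (P.smul_mem c⁻¹ hz.2).2
        rwa [inv_smul_smul₀ hc0] at this
    have hsup : Submodule.span K {f} ⊔ P = C := by
      refine le_antisymm (sup_le (Submodule.span_le.mpr (Set.singleton_subset_iff.mpr hfC))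
        fun z hz => hz.1) fun z hz => ?_
      obtain ⟨l, u, hu, rfl⟩ := hdecomp z hz
      exact Submodule.add_mem_sup (Submodule.mem_span_singleton.mpr ⟨l, rfl⟩) hu
    have := Submodule.finrank_sup_add_finrank_inf_eq (Submodule.span K {f}) P
    rw [hdisj, hsup, finrank_bot, finrank_span_singleton hf0] at this
    omega
  have hbound : Module.finrank K C ≤ Module.finrank K Kc + k := by
    let T' : C →ₗ[K] Fin k → K := T.comp C.subtype
    have h1 := LinearMap.finrank_range_add_finrank_ker T'
    have h2 : Module.finrank K (LinearMap.range T') ≤ k := by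
      refine (Submodule.finrank_le _).trans ?_
      rw [Module.finrank_fintype_fun_eq_card, Fintype.card_fin]
    have h3 : Module.finrank K (LinearMap.ker T') ≤ Module.finrank K Kc := by
      have hle : (LinearMap.ker T').map C.subtype ≤ Kc := by
        rintro _ ⟨z, hz, rfl⟩
        exact hTC _ z.2 (LinearMap.mem_ker.mp hz)
      have h4 := Submodule.finrank_mono hle
      rwa [Submodule.finrank_map_subtype_eq] at h4
    omega
  have hKbot : Kc = ⊥ := comSpan_eq_bot hP hnil hann (by rw [← hKc]; omega)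
  rw [hKbot, finrank_bot, zero_add] at hbound
  -- exact matrix units
  set D : Fin n → Fin n → A := fun a b => (if a = b then f else 0) - V a * U b with hD
  have hDC : ∀ a b, D a b ∈ C := fun a b => by
    refine C.sub_mem ?_ ⟨by rw [← mul_assoc, hfV], by rw [mul_assoc, hUf]⟩
    split_ifs
    exacts [hfC, C.zero_mem]
  have hQ : ∀ a c, ∑ b, V a * U b * (V b * U c) = V a * U c := fun a c => by
    calc ∑ b, V a * U b * (V b * U c) = V a * (∑ b, U b * V b) * U c := by
          simp only [Finset.mul_sum, Finset.sum_mul, mul_assoc]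
      _ = _ := by rw [hUV, mul_assoc, heU]
  have hDD : ∀ a c, ∑ b, D a b * D b c = D a c := by
    intro a c
    simp only [hD, sub_mul, mul_sub, ite_mul, mul_ite, zero_mul, mul_zero, hff,
      Finset.sum_sub_distrib, Finset.sum_ite_eq, Finset.sum_ite_eq', Finset.mem_univ, if_true, hQ]
    rw [← mul_assoc f, hfV, mul_assoc (V a) (U c) f, hUf]
    split_ifs <;> abel
  have hDJ : ∀ m : ℕ, ∀ a b, D a b ∈ J ^ (m + 1) := by
    intro m
    induction m with
    | zero =>
      intro a b
      rw [Submodule.pow_one]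
      refine hπ0 _ ?_ ?_
      · rw [← (hDC a b).1, ← mul_assoc, hef]
      · rw [hD, map_sub, map_mul, hπU, hπV]
        by_cases hab : a = b
        · subst hab
          rw [if_pos rfl, hπf, Matrix.single_mul_single_same, one_mul, sub_self]
        · rw [if_neg hab, map_zero, Matrix.single_mul_single_of_ne (h := hab), sub_zero]
    | succ m ih =>
      intro a c
      rw [← hDD a c, Submodule.pow_succ]
      refine Ideal.sum_mem _ fun b _ => Ideal.mul_mem_mul (ih a b) ?_
      have h1 := Ideal.pow_le_pow_right (show 1 ≤ m + 1 by omega) (ih b c)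
      rwa [Submodule.pow_one] at h1
  have hVU' : ∀ a b, V a * U b = if a = b then f else 0 := fun a b => by
    have h1 := Ideal.pow_le_pow_right (NJ.le_succ) (hDJ NJ a b)
    rw [hJ, hNJ, Ideal.mem_bot] at h1
    exact (sub_eq_zero.mp h1).symm
  refine ⟨Module.finrank K C, f, hff, by omega, hbound, ?_, ?_⟩
  · let Ψ : (Fin n × Fin n → C) →ₗ[K] A := ∑ q : Fin n × Fin n,
      ((LinearMap.mulLeft K (U q.1)).comp (LinearMap.mulRight K (V q.2))).comp
        (C.subtype.comp (LinearMap.proj q))
    have hΨ : ∀ t, Ψ t = ∑ q : Fin n × Fin n, U q.1 * ((t q : A) * V q.2) := fun t => by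
      simp [Ψ, LinearMap.sum_apply]
    have hinj : Function.Injective Ψ := by
      refine Function.LeftInverse.injective (g := fun z q => (⟨V q.1 * (z * U q.2), hVU q.1 q.2 z⟩ : C))
        fun t => funext fun q => Subtype.ext ?_
      show V q.1 * (Ψ t * U q.2) = (t q : A)
      rw [hΨ, Finset.sum_mul, Finset.mul_sum, Finset.sum_eq_single q]
      · calc V q.1 * (U q.1 * ((t q : A) * V q.2) * U q.2)
            = V q.1 * U q.1 * ((t q : A) * (V q.2 * U q.2)) := by simp only [mul_assoc]
          _ = (t q : A) := by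
            rw [hVU', hVU', if_pos rfl, if_pos rfl, (t q).2.2, (t q).2.1]
      · intro x _ hx
        calc V q.1 * (U x.1 * ((t x : A) * V x.2) * U q.2)
            = V q.1 * U x.1 * ((t x : A) * (V x.2 * U q.2)) := by simp only [mul_assoc]
          _ = 0 := by
            rw [hVU', hVU']
            by_cases h1 : q.1 = x.1
            · rw [if_neg fun h2 => hx (Prod.ext h1.symm h2)]; simp
            · rw [if_neg h1, zero_mul]
      · exact fun h => absurd (Finset.mem_univ _) h
    have hrange : LinearMap.range Ψ = LinearMap.range (LinearMap.mulLeft K e) := by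
      refine le_antisymm ?_ ?_
      · rintro _ ⟨t, rfl⟩
        refine ⟨Ψ t, ?_⟩
        rw [LinearMap.mulLeft_apply, hΨ]
        simp only [Finset.mul_sum, ← mul_assoc, heU]
      · rintro _ ⟨z, rfl⟩
        refine ⟨fun q => ⟨V q.1 * (z * U q.2), hVU q.1 q.2 z⟩, ?_⟩
        rw [hΨ, LinearMap.mulLeft_apply, Fintype.sum_prod_type]
        calc ∑ a, ∑ b, U a * (V a * (z * U b) * V b)
            = (∑ a, U a * V a) * z * ∑ b, U b * V b := by
              rw [Finset.sum_mul, Finset.sum_mul]
              simp only [Finset.mul_sum, mul_assoc]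
          _ = e * z := by rw [hUV, mul_assoc, ← hc z, ← mul_assoc, he]
    rw [← hrange, LinearMap.finrank_range_of_inj hinj, Module.finrank_pi_fintype,
      Finset.sum_const, Finset.card_univ, Fintype.card_prod, Fintype.card_fin, smul_eq_mul]
  · let Ψ : (Fin n → C) →ₗ[K] A := ∑ a : Fin n,
      (LinearMap.mulLeft K (U a)).comp (C.subtype.comp (LinearMap.proj a))
    have hΨ : ∀ t, Ψ t = ∑ a, U a * (t a : A) := fun t => by simp [Ψ, LinearMap.sum_apply]
    have hinj : Function.Injective Ψ := by
      refine Function.LeftInverse.injective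
        (g := fun z a => (⟨V a * (z * f), ⟨by rw [← mul_assoc, hfV],
          by rw [mul_assoc, mul_assoc, hff]⟩⟩ : C)) fun t => funext fun a => Subtype.ext ?_
      show V a * (Ψ t * f) = (t a : A)
      rw [hΨ, Finset.sum_mul, Finset.mul_sum, Finset.sum_eq_single a]
      · rw [mul_assoc, (t a).2.2, ← mul_assoc, hVU', if_pos rfl, (t a).2.1]
      · intro x _ hx
        rw [mul_assoc, (t x).2.2, ← mul_assoc, hVU', if_neg (Ne.symm hx), zero_mul]
      · exact fun h => absurd (Finset.mem_univ _) h
    have hrange : LinearMap.range Ψ = LinearMap.range (LinearMap.mulRight K f) := by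
      refine le_antisymm ?_ ?_
      · rintro _ ⟨t, rfl⟩
        refine ⟨Ψ t, ?_⟩
        rw [LinearMap.mulRight_apply, hΨ, Finset.sum_mul]
        exact Finset.sum_congr rfl fun a _ => by rw [mul_assoc, (t a).2.2]
      · rintro _ ⟨z, rfl⟩
        refine ⟨fun a => ⟨V a * (z * f), by rw [← mul_assoc, hfV], by
          rw [mul_assoc, mul_assoc, hff]⟩, ?_⟩
        rw [hΨ, LinearMap.mulRight_apply]
        calc ∑ a, U a * (V a * (z * f)) = e * (z * f) := by
              rw [← hUV, Finset.sum_mul]
              simp only [mul_assoc]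
          _ = z * f := by rw [hc, mul_assoc, hfe]
    rw [← hrange, LinearMap.finrank_range_of_inj hinj, Module.finrank_pi_fintype,
      Finset.sum_const, Finset.card_univ, Fintype.card_fin, smul_eq_mul]

end Cfsg.Agent.BC79.SmallCorner
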