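import Cfsg.Agent.BlockAlg8.TwoChar
import Cfsg.Agent.BC79.SmallCorner
import Cfsg.Agent.Lib.BlocksDefect.LocalBlock

/-!
# Blocks of rank one with at most four characters

The order of a defect group is at most the number of characters.
-/

set_option autoImplicit false

namespace Cfsg.Agent.BC79.SmallBlock

open BlocksCore BlocksDefect BlockAlg8 MonoidAlgebra
open scoped ComplexConjugate

variable {G : Type*} [Group G] [Fintype G] {p : ℕ} {M : Ideal AlgInt}

/-- A block of rank one with at most four characters has a defect group at most that large. -/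
theorem pow_defect_le [Fact p.Prime] (hM : IsPModular p M) {B : Set (IrrCharacter G)}
    (hB : IsPBlock M B) {D : Subgroup G} (hD : IsDefectGroup p M B D) (hl : blockRank p B = 1)
    (hk : Nat.card B ≤ 4) : p ^ blockDefect p B ≤ Nat.card B := by
  classical
  have := isPrime hM
  have := isMaximal hM
  have := charP_res (M := M) hM
  have := finite_irr (G := G)
  have := Fintype.ofFinite (IrrCharacter G)
  have hp : p.Prime := Fact.out
  set A := MonoidAlgebra (Res M) G
  set eC := blockCoeff B with heC
  have heI : IsIntClassFun M eC := isIntClassFun_blockCoeff hM hB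
  set e : A := toAlg M eC with he_def
  have he : e * e = e := by
    rw [he_def, ← toAlg_conv heI.2 heI.2, heC, conv_blockCoeff_self]
  have hc : ∀ a, e * a = a * e := toAlg_mul_comm heI.1
  have hD' := hD
  obtain ⟨g₀, hg₀, -⟩ := hD
  have he0 : e ≠ 0 := by
    intro h
    have h1 := congrArg (fun z : A => z.coeff g₀) h
    rw [he_def, coeff_toAlg, coeff_zero, Finsupp.zero_apply,
      show (0 : Res M) = red M 0 from (red_eq_zero memLocalIdeal_zero).symm,
      red_eq_iff hg₀.1 ((localRing M).zero_mem), sub_zero] at h1
    exact hg₀.2.1 h1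
  let lam : A →ₗ[Res M] Res M :=
    (Finsupp.lapply 1).comp (coeffLinearEquiv (Res M)).toLinearMap
  have hlam : ∀ a, lam a = a.coeff 1 := fun a => rfl
  have hsym : ∀ a b, lam (a * b) = lam (b * a) := fun a b => by
    rw [hlam, hlam, coeff_mul_eq, coeff_mul_eq]
    exact Fintype.sum_equiv (Equiv.inv G) _ _ fun y => by simp [mul_comm]
  have hnd : ∀ x, (∀ y, lam (x * y) = 0) → x = 0 := fun x hx => by
    apply MonoidAlgebra.ext
    refine Finsupp.ext fun z => ?_
    have h1 := hx (single z⁻¹ 1)
    rw [hlam, coeff_mul_single_apply, inv_inv, one_mul, mul_one] at h1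
    simpa using h1
  -- the trace functionals
  let F : G → G → ℂ := fun g h => conv (classInd g⁻¹) eC h⁻¹
  have hFint : ∀ g h, MemLocalRing M (F g h) := fun g h =>
    (isIntClassFun_conv (isIntClassFun_classInd g⁻¹) heI).2 h⁻¹
  set W : Submodule ℂ (G → ℂ) :=
    Submodule.span ℂ ((fun χ : IrrCharacter G => (χ : G → ℂ)) '' B) with hW
  have hFW : ∀ g, F g ∈ W := by
    intro g
    have hcf : IsClassFunction G (F g) := fun x t => by
      show conv _ _ _ = conv _ _ _
      rw [show (t * x * t⁻¹)⁻¹ = t * x⁻¹ * t⁻¹ by group]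
      exact isClassFunction_conv (isClassFunction_classInd _) heI.1 _ _
    rw [CharCore.eq_sum_classInner hcf]
    refine Submodule.sum_mem _ fun χ _ => ?_
    by_cases hχ : χ ∈ B
    · exact Submodule.smul_mem _ _ (Submodule.subset_span ⟨χ, hχ, rfl⟩)
    · have h0 : classInner (F g) (χ : G → ℂ) = 0 := by
        have h1 : omega (χ : G → ℂ) (conv (classInd g⁻¹) eC) = 0 := by
          rw [omega_conv χ (isClassFunction_classInd _) heI.1, heC, omega_blockCoeff,
            Set.indicator_of_notMem hχ, mul_zero]
        rw [omega_eq_sum, div_eq_zero_iff, or_iff_left (irr_one_ne_zero χ)] at h1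
        rw [classInner, mul_eq_zero]
        right
        rw [← h1]
        exact Fintype.sum_equiv (Equiv.inv G) _ _ fun h => by
          simp only [F, Equiv.inv_apply, conj_irr]
      rw [h0, zero_smul]
      exact W.zero_mem
  have hW2 : Module.finrank ℂ W ≤ Nat.card B := by
    rw [hW]
    have : Fintype B := Fintype.ofFinite B
    rw [show (fun χ : IrrCharacter G => (χ : G → ℂ)) '' B =
      Set.range fun χ : B => ((χ : IrrCharacter G) : G → ℂ) by rw [Set.image_eq_range]]
    refine (finrank_range_le_card (R := ℂ) fun χ : B => ((χ : IrrCharacter G) : G → ℂ)).trans ?_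
    rw [← Nat.card_eq_fintype_card]
  set S := Submodule.span (Res M) (Set.range fun g h => red M (F g h)) with hS
  have hS2 : Module.finrank (Res M) S ≤ Nat.card B :=
    (finrank_span_red_le F hFint W hFW).trans hW2
  let bS := Module.finBasis (Res M) S
  let w : Fin (Nat.card B) → G → Res M := fun i =>
    if h : (i : ℕ) < Module.finrank (Res M) S then (bS ⟨i, h⟩ : G → Res M) else 0
  let T : A →ₗ[Res M] Fin (Nat.card B) → Res M := LinearMap.pi fun i =>
    ∑ h : G, w i h • (Finsupp.lapply h).comp (coeffLinearEquiv (Res M)).toLinearMap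
  have hTap : ∀ x i, T x i = ∑ h, w i h * x.coeff h := fun x i => by
    show (∑ h : G, w i h • (Finsupp.lapply h).comp (coeffLinearEquiv (Res M)).toLinearMap) x = _
    rw [LinearMap.sum_apply]
    rfl
  have hT : ∀ x, e * x = x → T x = 0 → x ∈ commSpan (Res M) A := by
    intro x hx hTx
    have hker : ∀ v ∈ S, ∑ h, v h * x.coeff h = 0 := by
      intro v hv
      have hb := bS.sum_repr ⟨v, hv⟩
      have hv' : v = ∑ j, bS.repr ⟨v, hv⟩ j • (bS j : G → Res M) := by
        have h3 := congrArg Subtype.val hb
        rw [Submodule.coe_sum] at h3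
        exact h3.symm
      rw [hv']
      simp only [Finset.sum_apply, Pi.smul_apply, smul_eq_mul, Finset.sum_mul]
      rw [Finset.sum_comm]
      refine Finset.sum_eq_zero fun j _ => ?_
      have hj : (j : ℕ) < Nat.card B := lt_of_lt_of_le j.2 hS2
      have h1 := congrFun hTx ⟨j, hj⟩
      rw [hTap, Pi.zero_apply] at h1
      simp only [w, dif_pos j.2, Fin.eta] at h1
      rw [← mul_zero (bS.repr ⟨v, hv⟩ j), ← h1, Finset.mul_sum]
      exact Finset.sum_congr rfl fun h _ => by rw [mul_assoc]
    refine mem_commSpan_of_classSum x fun g => ?_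
    rw [← hker (fun h => red M (F g h)) (Submodule.subset_span ⟨g, rfl⟩)]
    have hxc : ∀ y, MonoidAlgebra.coeff x y = ∑ h, red M (eC (y * h⁻¹)) * MonoidAlgebra.coeff x h := by
      intro y
      conv_lhs => rw [← hx, coeff_mul_eq]
      refine Fintype.sum_equiv ((Equiv.inv G).trans (Equiv.mulRight y)) _ _ fun z => ?_
      simp [he_def, coeff_toAlg]
    have e1 : ∀ h, red M (F g h) = ∑ y, red M (classInd g y) * red M (eC (y * h⁻¹)) := by
      intro h
      rw [show F g h = ∑ y, classInd g y * eC (y * h⁻¹) from ?_,
        red_sum _ fun y => (localRing M).mul_mem ((isIntClassFun_classInd g).2 y) (heI.2 _)]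
      · exact Finset.sum_congr rfl fun y _ => red_mul ((isIntClassFun_classInd g).2 y) (heI.2 _)
      · simp only [F, conv_apply]
        refine Fintype.sum_equiv (Equiv.inv G) _ _ fun y => ?_
        simp only [Equiv.inv_apply]
        congr 1
        by_cases hy : IsConj g⁻¹ y
        · rw [classInd_apply_of_isConj hy, classInd_apply_of_isConj]
          obtain ⟨c, hc⟩ := isConj_iff.mp hy
          exact isConj_iff.mpr ⟨c, by rw [← hc]; group⟩
        · rw [classInd_apply_of_not_isConj hy, classInd_apply_of_not_isConj]
          intro h'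
          obtain ⟨c, hc⟩ := isConj_iff.mp h'
          exact hy (isConj_iff.mpr ⟨c, by rw [← inv_inv y, ← hc]; group⟩)
    simp only [e1, Finset.sum_mul, mul_assoc]
    rw [Finset.sum_comm (f := fun h y => red M (classInd g y) * (red M (eC (y * h⁻¹)) * MonoidAlgebra.coeff x h))]
    refine Finset.sum_congr rfl fun y _ => ?_
    rw [← Finset.mul_sum, ← hxc]
  -- restrictions to the regular elements
  let Reg := {h : G // ¬ p ∣ orderOf h}
  let R : (G → ℂ) →ₗ[ℂ] (Reg → ℂ) := LinearMap.funLeft ℂ ℂ Subtype.val
  have hWR : Module.finrank ℂ (W.map R) ≤ 1 := by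
    have h1 : W.map R = (Submodule.span ℂ
        ((fun χ : IrrCharacter G => pRegularPart p (χ : G → ℂ)) '' B)).map R := by
      rw [hW, Submodule.map_span, Submodule.map_span, Set.image_image, Set.image_image]
      refine congrArg _ (Set.image_congr fun χ _ => funext fun h => ?_)
      show (χ : G → ℂ) h.1 = pRegularPart p (χ : G → ℂ) h.1
      exact (if_pos h.2).symm
    rw [h1]
    refine (Submodule.finrank_map_le _ _).trans ?_
    rw [← hl, blockRank]
  set S₁ := Submodule.span (Res M) (Set.range fun g (h : Reg) => red M (F g h.1)) with hS₁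
  have hS₁1 : Module.finrank (Res M) S₁ ≤ 1 :=
    (finrank_span_red_le (fun g (h : Reg) => F g h.1) (fun g h => hFint g h.1) (W.map R)
      (fun g => ⟨F g, hFW g, rfl⟩)).trans hWR
  obtain ⟨r₀, d, π₀, hd, hπs, hπker⟩ := exists_pi (K := Res M) (A := A)
  let tr : Fin r₀ → A →ₗ[Res M] Res M := fun k =>
    (Matrix.traceLinearMap (Fin (d k)) (Res M) (Res M)).comp
      ((LinearMap.proj k).comp π₀.toLinearMap)
  have htr : ∀ k z, tr k z = (π₀ z k).trace := fun k z => rfl
  have htrsym : ∀ k a b, tr k (a * b) = tr k (b * a) := fun k a b => by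
    rw [htr, htr, map_mul, map_mul, Pi.mul_apply, Pi.mul_apply]
    exact Matrix.trace_mul_comm _ _
  have hε : ∀ i, π₀ e i = 0 ∨ π₀ e i = 1 := by
    intro i
    refine scalar_of_central (fun x => ?_) ?_
    · obtain ⟨a, ha⟩ := hπs (Pi.single i x)
      have h := congrArg (fun z => π₀ z i) (hc a)
      simpa [ha] using h
    · simpa using congrArg (fun z => π₀ z i) he
  have : IsArtinianRing A := IsArtinianRing.of_finite (Res M) A
  obtain ⟨NJ, hNJ⟩ := exists_jacobson_pow (A := A)
  obtain ⟨i, hi⟩ : ∃ i, π₀ e i = 1 := by
    by_contra h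
    push Not at h
    have hJe : e ∈ Ring.jacobson A := (hπker e).mp (funext fun i => (hε i).resolve_right (h i))
    have hpow : ∀ m, e ^ (m + 1) = e := fun m => by
      induction m with
      | zero => rw [pow_one]
      | succ m ih => rw [pow_succ, ih, he]
    have h2 := Ideal.pow_mem_pow hJe NJ
    rw [hNJ, Ideal.mem_bot] at h2
    exact he0 (by rw [← hpow NJ, pow_succ, h2, zero_mul])
  -- the trace of a component depends only on the regular part
  have htru : ∀ k g, tr k (single g 1) = tr k (single ((pp p g)⁻¹ * g) 1) := by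
    intro k g
    have := hd k
    obtain ⟨-, -, -, ⟨s, hs⟩, -⟩ := pp_spec (p := p) g
    obtain ⟨hcm, -⟩ := regular_inv_pp_mul (p := p) g
    set U := π₀ (single (pp p g) 1) k with hU
    set Y := π₀ (single ((pp p g)⁻¹ * g) 1) k with hY
    have hUY : π₀ (single g 1) k = U * Y := by
      rw [hU, hY, ← Pi.mul_apply, ← map_mul, single_mul_single, one_mul, mul_inv_cancel_left]
    have hYU : Y * U = U * Y := by
      rw [hU, hY, ← Pi.mul_apply, ← Pi.mul_apply, ← map_mul, ← map_mul, single_mul_single,
        single_mul_single, one_mul, hcm.eq]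
    have hUp : U ^ p ^ s = 1 := by
      rw [hU, ← Pi.pow_apply, ← map_pow, single_pow, one_pow, ← hs, pow_orderOf_eq_one,
        ← MonoidAlgebra.one_def, map_one, Pi.one_apply]
    have hnil : IsNilpotent (U - 1) := by
      refine ⟨p ^ s, ?_⟩
      rw [sub_pow_char_pow_of_commute _ _ (Commute.one_right U), hUp, one_pow, sub_self]
    have hn2 : IsNilpotent ((U - 1) * Y) :=
      Commute.isNilpotent_mul_right ((Commute.sub_left hYU.symm (Commute.one_left Y))) hnil
    have h0 := (Matrix.isNilpotent_trace_of_isNilpotent hn2).eq_zero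
    rw [sub_mul, one_mul, Matrix.trace_sub, sub_eq_zero] at h0
    rw [htr, htr, hUY, h0]
  -- a component of the block, on the regular elements, lies in the span
  have hin : ∀ k, π₀ e k = 1 → (fun h : Reg => tr k (single h.1 1)) ∈ S₁ := by
    intro k hk1
    let rep : G → G := fun y => (ConjClasses.mk y).out
    have hrep : ∀ y, IsConj y (rep y) := fun y =>
      ConjClasses.mk_eq_mk_iff_isConj.mp (Quotient.out_eq (ConjClasses.mk y)).symm
    have hclass : ∀ y z, IsConj y z → tr k (single y 1) = tr k (single z 1) := by
      intro y z hyz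
      obtain ⟨t, ht⟩ := isConj_iff.mp hyz
      have h1 := htrsym k (single (t * y) (1 : Res M)) (single t⁻¹ 1)
      rw [single_mul_single, single_mul_single, ht, inv_mul_cancel_left, one_mul] at h1
      exact h1.symm
    have hval : ∀ h : G, tr k (single h 1) = ∑ z, red M (eC (z * h⁻¹)) * tr k (single z 1) := by
      intro h
      have h1 : tr k (single h 1) = tr k (e * single h 1) := by
        rw [htr, htr, map_mul, Pi.mul_apply, hk1, one_mul]
      have h2 : e * single h 1 = ∑ z, red M (eC (z * h⁻¹)) • (single z 1 : A) := by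
        apply MonoidAlgebra.ext
        refine Finsupp.ext fun w => ?_
        rw [coeff_mul_single_apply, he_def, coeff_toAlg, coeff_sum, Finsupp.finsetSum_apply,
          Finset.sum_eq_single w]
        · simp
        · intro z _ hz
          simp [Finsupp.single_eq_of_ne (Ne.symm hz)]
        · exact fun h => absurd (Finset.mem_univ _) h
      rw [h1, h2, map_sum]
      exact Finset.sum_congr rfl fun z _ => by rw [map_smul, smul_eq_mul]
    have hsum : (fun h : Reg => tr k (single h.1 1)) =
        ∑ q : {y : G // rep y = y}, tr k (single q.1 1) • fun h : Reg => red M (F q.1 h.1) := by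
      funext h
      rw [hval, Finset.sum_apply]
      simp only [Pi.smul_apply, smul_eq_mul]
      have e2 : ∀ q, red M (F q h.1) = ∑ z, red M (classInd q z) * red M (eC (z * h.1⁻¹)) := by
        intro q
        rw [show F q h.1 = ∑ y, classInd q y * eC (y * h.1⁻¹) from ?_,
          red_sum _ fun y => (localRing M).mul_mem ((isIntClassFun_classInd q).2 y) (heI.2 _)]
        · exact Finset.sum_congr rfl fun y _ => red_mul ((isIntClassFun_classInd q).2 y) (heI.2 _)
        · simp only [F, conv_apply]
          refine Fintype.sum_equiv (Equiv.inv G) _ _ fun y => ?_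
          simp only [Equiv.inv_apply]
          congr 1
          by_cases hy : IsConj q⁻¹ y
          · rw [classInd_apply_of_isConj hy, classInd_apply_of_isConj]
            obtain ⟨c, hc⟩ := isConj_iff.mp hy
            exact isConj_iff.mpr ⟨c, by rw [← hc]; group⟩
          · rw [classInd_apply_of_not_isConj hy, classInd_apply_of_not_isConj]
            intro h'
            obtain ⟨c, hc⟩ := isConj_iff.mp h'
            exact hy (isConj_iff.mpr ⟨c, by rw [← inv_inv y, ← hc]; group⟩)
      simp only [e2, Finset.mul_sum]
      rw [Finset.sum_comm]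
      refine Finset.sum_congr rfl fun z _ => ?_
      have hrr : rep (rep z) = rep z := by
        simp only [rep]
        rw [show ConjClasses.mk ((ConjClasses.mk z).out) = ConjClasses.mk z from Quotient.out_eq _]
      rw [Finset.sum_eq_single ⟨rep z, hrr⟩]
      · rw [classInd_apply_of_isConj (hrep z).symm, show (red M 1) = 1 by
          rw [show (1 : ℂ) = ((1 : localRing M) : ℂ) from rfl, red_coe, map_one], one_mul,
          ← hclass z _ (hrep z), mul_comm]
      · intro q _ hq
        rw [classInd_apply_of_not_isConj, red_eq_zero memLocalIdeal_zero, zero_mul, mul_zero]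
        intro hqz
        refine hq (Subtype.ext ?_)
        show q.1 = rep z
        rw [← q.2]
        simp only [rep, ConjClasses.mk_eq_mk_iff_isConj.mpr hqz]
      · exact fun h => absurd (Finset.mem_univ _) h
    rw [hsum]
    exact Submodule.sum_mem _ fun q _ =>
      Submodule.smul_mem _ _ (Submodule.subset_span ⟨q.1, rfl⟩)
  have hne : ∀ k, (fun h : Reg => tr k (single h.1 1)) ≠ 0 := by
    intro k h0
    have := hd k
    obtain ⟨a, ha⟩ := hπs (Pi.single k (Matrix.single 0 0 1))
    have h1 : tr k a = 1 := by simp [htr, ha]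
    have h2 : ∀ x : A, tr k x = 0 := fun x => by
      induction x using MonoidAlgebra.induction_linear with
      | zero => rw [map_zero]
      | add u v hu hv => rw [map_add, hu, hv, add_zero]
      | single g c =>
        rw [show single g c = c • (single g 1 : A) by simp, map_smul, htru,
          show tr k (single ((pp p g)⁻¹ * g) 1) = 0 from
            congrFun h0 ⟨_, (regular_inv_pp_mul (p := p) g).2⟩, smul_zero]
    exact one_ne_zero (h1.symm.trans (h2 a))
  have honly : ∀ k, k ≠ i → π₀ e k = 0 := by
    intro k hki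
    refine (hε k).resolve_right fun hk1 => ?_
    have := hd i
    obtain ⟨c, hc'⟩ : ∃ c : Res M, ∀ h : Reg, tr k (single h.1 1) = c * tr i (single h.1 1) := by
      have hnot : ¬ LinearIndependent (Res M) ![(⟨_, hin i hi⟩ : S₁), ⟨_, hin k hk1⟩] := fun hli => by
        have h2 := hli.fintype_card_le_finrank
        simp at h2
        omega
      rw [LinearIndependent.pair_iff] at hnot
      push Not at hnot
      obtain ⟨u, v, huv, hne'⟩ := hnot
      have hv : v ≠ 0 := fun hv0 => by
        have hu : u = 0 := by
          by_contra hu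
          rw [hv0, zero_smul, add_zero] at huv
          exact hne i (congrArg Subtype.val ((smul_eq_zero.mp huv).resolve_left hu))
        exact hne' hu hv0
      refine ⟨-(v⁻¹ * u), fun h => ?_⟩
      have h1 := congrFun (congrArg Subtype.val huv) h
      simp only [Submodule.coe_add, Submodule.coe_smul, Submodule.coe_zero, Pi.add_apply,
        Pi.smul_apply, smul_eq_mul, Pi.zero_apply] at h1
      field_simp
      linear_combination h1
    have hall : ∀ x : A, tr k x = c * tr i x := fun x => by
      induction x using MonoidAlgebra.induction_linear with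
      | zero => simp
      | add u v hu hv => rw [map_add, map_add, hu, hv, mul_add]
      | single g a =>
        rw [show single g a = a • (single g 1 : A) by simp, map_smul, map_smul, htru k, htru i,
          hc' ⟨_, (regular_inv_pp_mul (p := p) g).2⟩, smul_eq_mul, smul_eq_mul]
        ring
    have := hd k
    obtain ⟨a, ha⟩ := hπs (Pi.single k (Matrix.single 0 0 1))
    have h1 := hall a
    simp [htr, ha, Pi.single_eq_of_ne (Ne.symm hki)] at h1
  let π : A →ₐ[Res M] Matrix (Fin (d i)) (Fin (d i)) (Res M) := (Pi.evalAlgHom (Res M) _ i).comp π₀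
  have := hd i
  obtain ⟨r, f, hff, hr0, hrk, hdimB, hdimP⟩ := SmallCorner.block_shape e π he hc
    (fun X => by
      obtain ⟨z, hz⟩ := hπs (Pi.single i X)
      exact ⟨z, (congrFun hz i).trans (Pi.single_eq_same _ _)⟩) hi
    (fun z hz => by
      show π₀ z i = 0
      rw [(hπker z).mpr hz, Pi.zero_apply])
    (fun z hz h => (hπker z).mp (funext fun k => by
      by_cases hki : k = i
      · subst hki; exact h
      · rw [← hz, map_mul, Pi.mul_apply, honly k hki, zero_mul, Pi.zero_apply]))
    lam hsym hnd hk T hT
  set n := d i with hn_def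
  have hn : ∑ᶠ χ ∈ B, charDegree (χ : G → ℂ) ^ 2 = n * n * r := by
    rw [← hdimB]
    apply Nat.cast_injective (R := ℂ)
    let Φ : A ≃ₗ[Res M] (G → Res M) :=
      (coeffLinearEquiv (Res M)).trans (Finsupp.linearEquivFunOnFinite (Res M) (Res M) G)
    let E : G → G → ℂ := fun x y => eC (x * y⁻¹)
    have hidem : ∀ x z, ∑ y, E x y * E y z = E x z := fun x z => by
      have h := congrFun (conv_blockCoeff_self (G := G) B) (x * z⁻¹)
      rw [conv_apply] at h
      show _ = eC (x * z⁻¹)
      rw [heC, ← h]
      refine Fintype.sum_equiv ((Equiv.inv G).trans (Equiv.mulLeft x)) _ _ fun y => ?_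
      simp only [Equiv.trans_apply, Equiv.inv_apply, Equiv.coe_mulLeft, E, heC]
      congr 2
      group
    have hE := finrank_range_red (fun x y => heI.2 (x * y⁻¹)) hidem
    have hconj : (Matrix.toLin' (Matrix.of fun x y => red M (E x y))).comp Φ.toLinearMap =
        Φ.toLinearMap.comp (LinearMap.mulLeft (Res M) e) := by
      refine LinearMap.ext fun z => funext fun x => ?_
      simp only [LinearMap.comp_apply, Matrix.toLin'_apply, Matrix.mulVec, dotProduct,
        LinearMap.mulLeft_apply, LinearEquiv.coe_coe]
      show ∑ y, red M (E x y) * z.coeff y = (e * z).coeff x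
      rw [coeff_mul_eq]
      refine Fintype.sum_equiv ((Equiv.inv G).trans (Equiv.mulLeft x)) _ _ fun y => ?_
      simp only [Equiv.trans_apply, Equiv.inv_apply, Equiv.coe_mulLeft, he_def, coeff_toAlg, E]
      congr 2
      group
    have hr : LinearMap.range (Matrix.toLin' (Matrix.of fun x y => red M (E x y))) =
        (LinearMap.range (LinearMap.mulLeft (Res M) e)).map Φ.toLinearMap := by
      rw [← LinearMap.range_comp, ← hconj, LinearMap.range_comp_of_range_eq_top]
      exact LinearEquiv.range Φ
    rw [hr, LinearEquiv.finrank_map_eq] at hE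
    rw [hE]
    simp only [mul_inv_cancel, Finset.sum_const, Finset.card_univ, nsmul_eq_mul, heC,
      blockCoeff, ← Nat.card_eq_fintype_card]
    rw [mul_inv_cancel_left₀ (Nat.cast_ne_zero.mpr Nat.card_pos.ne'), finsum_mem_eq_toFinset_sum,
      finsum_mem_eq_toFinset_sum, Nat.cast_sum]
    refine Finset.sum_congr rfl fun χ _ => ?_
    rw [irr_one_eq, Complex.conj_natCast, Nat.cast_pow]
    ring
  have hsq := BlkChar.sum_sq_factorization hM hB
  rw [hn] at hsq
  set a := (Nat.card G).factorization p with ha_def
  have hda : blockDefect p B ≤ a := Nat.sub_le _ _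
  obtain ⟨S'⟩ := (inferInstance : Nonempty (Sylow p G))
  have hdvd := card_dvd_finrank_mulRight (S' : Subgroup G) S'.2 f hff
  rw [Sylow.card_eq_multiplicity, ← ha_def, hdimP] at hdvd
  have hn0 : n ≠ 0 := NeZero.ne _
  have hnr : a ≤ (n * r).factorization p :=
    (hp.pow_dvd_iff_le_factorization (Nat.mul_ne_zero hn0 hr0.ne')).mp hdvd
  rw [Nat.factorization_mul hn0 hr0.ne', Finsupp.add_apply] at hnr
  rw [Nat.factorization_mul (Nat.mul_ne_zero hn0 hn0) hr0.ne', Finsupp.add_apply,
    Nat.factorization_mul hn0 hn0, Finsupp.add_apply] at hsq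
  refine le_trans ?_ hrk
  refine le_trans ?_ (Nat.le_of_dvd hr0 (Nat.ordProj_dvd r p))
  exact Nat.pow_le_pow_right hp.pos (by omega)

end Cfsg.Agent.BC79.SmallBlock
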